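import Cfsg.Agent.Lib.Chev.Orders
import Cfsg.Agent.Lib.Chev.All

/-! Orbit and Smith-form certificates for the type D4 (written out by a script from the Cartan matrix). -/

set_option autoImplicit false

namespace Cfsg.Agent.Lib.Chev.D4

/-- Orbit 0. -/
def orbit0 : OrbitCert where
  node := 0
  orbit := [[1, 0, 0, 0], [-1, 1, 0, 0], [0, -1, 1, 1], [0, 0, -1, 1], [0, 0, 1, -1], [0, 1, -1, -1], [1, -1, 0, 0], [-1, 0, 0, 0]]
  parent := [(0, 0), (1, 1), (2, 2), (2, 3), (3, 3), (5, 1), (6, 0)]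
  target := [[1, 0, 0, 0], [0, 2, 1, 1], [2, 1, 3, 4], [3, 3, 2, 5], [4, 4, 5, 2], [5, 6, 4, 3], [7, 5, 6, 6], [6, 7, 7, 7]]

/-- Orbit 1. -/
def orbit1 : OrbitCert where
  node := 2
  orbit := [[0, 0, 1, 0], [0, 1, -1, 0], [1, -1, 0, 1], [1, 0, 0, -1]]
  parent := [(0, 2), (1, 1), (2, 3)]
  target := [[0, 1, 0], [2, 0, 1], [1, 2, 3], [3, 3, 2]]

/-- Orbit 2. -/
def orbit2 : OrbitCert where
  node := 1
  orbit := [[0, 1, 0, 0], [1, -1, 1, 1], [1, 0, 1, -1]]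
  parent := [(0, 1), (1, 3)]
  target := [[1, 0], [0, 2], [2, 1]]

/-- Orbit 3. -/
def orbit3 : OrbitCert where
  node := 3
  orbit := [[0, 0, 0, 1], [0, 1, 0, -1]]
  parent := [(0, 3)]
  target := [[1], [0]]

/-- The chain of parabolic orbits. -/
def orbits : List OrbitCert := [orbit0, orbit1, orbit2, orbit3]

/-- The degrees. -/
def degs : List ℕ := [2, 4, 4, 6]

theorem chain_ok : chkChain Cfsg.Lie.chevD4 cert (List.range Cfsg.Lie.chevD4.rank) orbits = true := by decide +kernel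

theorem poly_ok : chkPoly Cfsg.Lie.chevD4 cert orbits degs = true := by decide +kernel

theorem smith_ok : SmithOK Cfsg.Lie.chevD4 cert [1, 1, 2, 2] :=
  ⟨[[-1, 0, 0, 0], [-2, -1, 0, 0], [-3, -2, -1, 0], [2, 2, 1, 1]], [[-1, 0, 0, 0], [2, -1, 0, 0], [-1, 2, -1, 0], [-1, 0, 1, 1]], [[0, 0, 0, 1], [1, 0, 0, 2], [0, 1, -1, 1], [0, 0, 1, 2]], [[-2, 1, 0, 0], [-3, 0, 1, 1], [-2, 0, 0, 1], [1, 0, 0, 0]], by decide +kernel⟩

end Cfsg.Agent.Lib.Chev.D4
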