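import Cfsg.Agent.Lib.Chev.Parabolic
import Cfsg.Agent.Lib.Chev.Simple

/-!
Levi decomposition and normalisers of the unipotent radicals, for any field and any set of nodes.
-/

set_option autoImplicit false
set_option maxHeartbeats 400000

namespace Cfsg.Agent.Lib.Chev

open Cfsg.Lie
open scoped Matrix

variable {D : ChevalleyDatum} {C : Cert} {F : Type*} [Field F]

open Classical in
/-- The nodes of `J` that are fundamental roots. -/
noncomputable def nodesOf (D : ChevalleyDatum) (J : Set ℕ) : Finset ℕ :=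
  (Finset.range D.rank).filter (fun j => j ∈ J)

theorem mem_nodesOf {J : Set ℕ} {j : ℕ} : j ∈ nodesOf D J ↔ j < D.rank ∧ j ∈ J := by
  simp [nodesOf]

theorem nodesOf_subset (J : Set ℕ) : nodesOf D J ⊆ Finset.range D.rank :=
  fun _ hj => Finset.mem_range.2 (mem_nodesOf.1 hj).1

theorem parabolic_nodesOf (J : Set ℕ) :
    D.parabolicSubgroup F J = D.parabolicSubgroup F (nodesOf D J : Set ℕ) := by
  unfold ChevalleyDatum.parabolicSubgroup
  congr 2
  ext g
  constructor
  · rintro ⟨j, hj, hjr, e⟩; exact ⟨j, mem_nodesOf.2 ⟨hjr, hj⟩, hjr, e⟩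
  · rintro ⟨j, hj, hjr, e⟩; exact ⟨j, (mem_nodesOf.1 hj).2, hjr, e⟩

/-- The roots of the subsystem. -/
def subSet (D : ChevalleyDatum) (C : Cert) (J : Finset ℕ) : Set ℕ := {r | r < D.nroots ∧ Supp D C J r}

/-- The weight of a root outside the subsystem. -/
def outWt (D : ChevalleyDatum) (C : Cert) (J : Finset ℕ) (r : ℕ) : ℤ :=
  ∑ l ∈ Finset.range D.rank, (if l ∈ J then 0 else 1) * coef D C l r

namespace Checked

variable (h : Checked D C)
include h

theorem inRootSub_iff {J : Set ℕ} {r : ℕ} :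
    D.InRootSub J r ↔ r ∈ subSet D C (nodesOf D J) := by
  unfold ChevalleyDatum.InRootSub subSet Supp
  simp only [Set.mem_setOf_eq]
  refine and_congr_right fun hr => ⟨fun hs i hi hiJ => ?_, fun hs i hi hiJ => ?_⟩
  · have := hs i hi fun e => hiJ (mem_nodesOf.2 ⟨hi, e⟩)
    rw [h.coroot_getD hi hr] at this
    exact (((h.cor_spec hr).2.2.2 i hi).1).1 this
  · rw [h.coroot_getD hi hr]
    exact (((h.cor_spec hr).2.2.2 i hi).1).2 (hs i hi fun e => hiJ (mem_nodesOf.1 e).2)

theorem unipotentRadical_eq (J : Set ℕ) :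
    D.unipotentRadical F J = rootGen D F (outSet D C (nodesOf D J)) := by
  unfold ChevalleyDatum.unipotentRadical rootGen
  congr 1
  ext g
  simp only [Set.mem_setOf_eq, h.isPosRoot_iff, h.inRootSub_iff]
  constructor
  · rintro ⟨r, t, hp, hn, e⟩
    exact ⟨r, t, ⟨hp, fun hs => hn ⟨hp.2, hs⟩⟩, e⟩
  · rintro ⟨r, t, hr, e⟩
    exact ⟨r, t, hr.1, fun hs => hr.2 hs.2, e⟩

theorem leviSubgroup_eq (J : Set ℕ) :
    D.leviSubgroup F J = D.diagonalSubgroup F ⊔ rootGen D F (subSet D C (nodesOf D J)) := by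
  unfold ChevalleyDatum.leviSubgroup rootGen
  simp only [h.inRootSub_iff]

theorem supp_simple_mem {J : Finset ℕ} {j : ℕ} (hj : j < D.rank) (hjJ : j ∈ J) :
    D.simple j ∈ subSet D C J ∧ ng D (D.simple j) ∈ subSet D C J :=
  ⟨⟨h.simple_lt hj, h.supp_simple hj hjJ⟩, ⟨Checked.ng_lt (h.simple_lt hj),
    h.supp_ngFin (r := ⟨D.simple j, h.simple_lt hj⟩) (h.supp_simple hj hjJ)⟩⟩

theorem nS_mem_rootGen {j : ℕ} (hj : j < D.rank) {S : Set ℕ} (h1 : D.simple j ∈ S) (h2 : ng D (D.simple j) ∈ S) :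
    nS h F j ∈ rootGen D F S := by
  have hp := h.simple_lt hj
  have e : nS h F j = xGL h F hp 1 * xGL h F (Checked.ng_lt hp) (-1) * xGL h F hp 1 := by
    refine Units.ext ?_
    rw [coe_nS _ hj]
    simp only [ChevalleyDatum.nMat, ChevalleyDatum.nWord, ChevalleyDatum.wordMat, List.map_cons, List.map_nil,
      List.prod_cons, List.prod_nil, mul_one, h.neg_eq hp, inv_one, Units.val_mul, coe_xGL, mul_assoc]
  rw [e]
  exact mul_mem (mul_mem (mem_rootGen h1 rfl) (mem_rootGen h2 rfl)) (mem_rootGen h1 rfl)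

theorem isAdd_outWt (J : Finset ℕ) : IsAdd D C (outWt D C J) := h.isAdd_sum _

theorem outWt_zero {J : Finset ℕ} {r : ℕ} (hr : r ∈ subSet D C J) : outWt D C J r = 0 := by
  refine Finset.sum_eq_zero fun l hl => ?_
  by_cases e : l ∈ J
  · rw [if_pos e, zero_mul]
  · rw [hr.2 l (Finset.mem_range.1 hl) e, mul_zero]

theorem outWt_pos {J : Finset ℕ} {r : ℕ} (hr : r ∈ outSet D C J) : 0 < outWt D C J r := by
  obtain ⟨l, hl, hlJ, hp⟩ := h.exists_coef_pos_of_not_supp hr
  refine Finset.sum_pos' (fun j hj => ?_) ⟨l, Finset.mem_range.2 hl, by rw [if_neg hlJ, one_mul]; exact hp⟩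
  split_ifs
  · simp
  · rw [one_mul]; exact h.coef_nonneg (Finset.mem_range.1 hj) hr.1.2 hr.1.1

theorem raises_x_out {J : Finset ℕ} {r : ℕ} (hr : r ∈ outSet D C J) (t : F) :
    Raises (wgt D (outWt D C J)) 1 (D.x F r t - 1) := by
  intro y x hne
  by_cases hyx : y = x
  · exfalso
    apply hne
    subst hyx
    rw [Matrix.sub_apply, Matrix.one_apply_eq, h.x_diag hr.1.2 t y, sub_self]
  rw [Matrix.sub_apply, Matrix.one_apply_ne hyx, sub_zero] at hne
  rcases h.x_entry hr.1.2 t hne with e | ⟨k, hk, hφ⟩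
  · exact absurd e hyx
  have e := hφ _ (h.isAdd_outWt J)
  have h0 := h.outWt_pos hr
  have : (1 : ℤ) ≤ (k : ℤ) * outWt D C J r := by
    have : (1 : ℤ) ≤ (k : ℤ) := by exact_mod_cast hk
    nlinarith
  omega

theorem graded_x {J : Finset ℕ} {r : ℕ} (hr : r ∈ subSet D C J) (t : F) {y x : D.Idx}
    (hne : D.x F r t y x ≠ 0) : wgt D (outWt D C J) y = wgt D (outWt D C J) x := by
  rcases h.x_entry hr.1 t hne with e | ⟨k, hk, hφ⟩
  · rw [e]
  · rw [hφ _ (h.isAdd_outWt J), h.outWt_zero hr, mul_zero, add_zero]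

end Checked

/-- The units preserving a grading of the coordinates, as a subgroup. -/
def gradedGroup (D : ChevalleyDatum) (F : Type*) [Field F] (w : D.Idx → ℤ) : Subgroup (GL D.Idx F) where
  carrier := {g | ∀ k : ℤ, Commute (g : Matrix D.Idx D.Idx F) (Matrix.diagonal fun y => if w y = k then (1 : F) else 0)}
  one_mem' := fun k => Commute.one_left _
  mul_mem' := fun {a b} ha hb k => by rw [Units.val_mul]; exact (ha k).mul_left (hb k)
  inv_mem' := fun {a} ha k => (ha k).units_inv_left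

theorem mem_gradedGroup_iff {w : D.Idx → ℤ} {g : GL D.Idx F} :
    g ∈ gradedGroup D F w ↔ ∀ y x, (g : Matrix D.Idx D.Idx F) y x ≠ 0 → w y = w x := by
  constructor
  · intro hg y x hne
    have := congrFun (congrFun (hg (w x)).eq y) x
    rw [Matrix.mul_diagonal, Matrix.diagonal_mul, if_pos rfl, mul_one] at this
    by_contra e
    rw [if_neg e, zero_mul] at this
    exact hne this
  · intro hg k
    ext y x
    rw [Matrix.mul_diagonal, Matrix.diagonal_mul]
    by_cases hne : (g : Matrix D.Idx D.Idx F) y x = 0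
    · rw [hne]; simp
    · rw [hg y x hne, mul_comm]

namespace Rooted

variable (hh : Rooted D C)
include hh

theorem subSet_le_parabolic {J : Finset ℕ} (hJ : J ⊆ Finset.range D.rank) :
    rootGen D F (subSet D C J) ≤ D.parabolicSubgroup F (J : Set ℕ) := by
  have h := hh.toChecked
  obtain ⟨w, hw⟩ := hh.exists_top hJ
  obtain ⟨L, hL, e⟩ := h.exists_wperm hw.1
  have hLw : IsWord D L := fun i hi => Finset.mem_range.1 (hJ (hL i hi))
  have hn := hh.nProd_mem_parabolic (F := F) hJ hL
  refine (Subgroup.closure_le _).2 ?_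
  rintro g ⟨r, t, ⟨hr, hs⟩, eg⟩
  have hg : g = xGL h F hr t := Units.ext eg
  subst hg
  by_cases hp : D.nroots / 2 ≤ r
  · exact Subgroup.mem_sup_left (Subgroup.mem_sup_left (h.xGL_mem_pos hr hp t))
  · set n := nProd hh.toChecked F L with hndef
    have e1 : n * xGL h F hr t * n⁻¹ = xGL h F (h.perm_lt hLw hr) ((weta C L r : F) * t) := by
      rw [mul_inv_eq_iff_eq_mul]
      exact Units.ext (by rw [Units.val_mul, Units.val_mul, coe_xGL, coe_xGL, h.nProd_mul_x hLw hr])
    have hpos : D.nroots / 2 ≤ perm C L r := by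
      have := (hh.top_apply hJ hw (r := ⟨r, hr⟩) hs).2 hp
      rwa [← e, h.wperm_val hLw] at this
    have hmem : n * xGL h F hr t * n⁻¹ ∈ D.parabolicSubgroup F (J : Set ℕ) := by
      rw [e1]; exact Subgroup.mem_sup_left (Subgroup.mem_sup_left (h.xGL_mem_pos _ hpos _))
    have := mul_mem (mul_mem (inv_mem hn) hmem) hn
    simpa [mul_assoc] using this

theorem parabolic_eq {J : Finset ℕ} (hJ : J ⊆ Finset.range D.rank) :
    D.parabolicSubgroup F (J : Set ℕ) = D.diagonalSubgroup F ⊔ rootGen D F (posSet D ∪ subSet D C J) := by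
  have h := hh.toChecked
  refine le_antisymm (sup_le (sup_le ?_ le_sup_left) ((Subgroup.closure_le _).2 ?_)) (sup_le ?_ ?_)
  · rw [h.posUnipotent_eq]; exact le_trans (rootGen_mono Set.subset_union_left) le_sup_right
  · rintro g ⟨j, hjJ, hj, e⟩
    have : g = nS h F j := Units.ext (by rw [e, coe_nS _ hj])
    rw [this]
    obtain ⟨h1, h2⟩ := h.supp_simple_mem hj (Finset.mem_coe.1 hjJ)
    exact Subgroup.mem_sup_right (h.nS_mem_rootGen hj (Or.inr h1) (Or.inr h2))
  · exact le_trans le_sup_right le_sup_left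
  · refine (Subgroup.closure_le _).2 ?_
    rintro g ⟨r, t, hr | hr, e⟩
    · refine Subgroup.mem_sup_left (Subgroup.mem_sup_left ?_)
      rw [h.posUnipotent_eq]; exact mem_rootGen hr e
    · exact hh.subSet_le_parabolic hJ (mem_rootGen hr e)

theorem parabolic_le_normalizer_any {J : Finset ℕ} (hJ : J ⊆ Finset.range D.rank) :
    D.parabolicSubgroup F (J : Set ℕ) ≤
      Subgroup.normalizer (rootGen D F (outSet D C J) : Set (GL D.Idx F)) := by
  have h := hh.toChecked
  have hU : D.posUnipotent F ≤ Subgroup.normalizer (rootGen D F (outSet D C J) : Set (GL D.Idx F)) := by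
    rw [h.posUnipotent_eq]
    refine (Subgroup.closure_le _).2 ?_
    rintro g ⟨k, t, hk, e⟩
    have hg : g = xGL h F hk.2 t := Units.ext e
    refine h.rootSubgroup_le_normalizer outSet_lt hk.2 (fun s hs hne =>
      ⟨Checked.ne_ng_of_pos hk hs.1 h.two_mul_half, fun c hc => ?_⟩) (hg ▸ (h.rootSubgroup_mem_iff hk.2).2 ⟨t, rfl⟩)
    obtain ⟨l, hl, hlJ, hp⟩ := h.exists_coef_pos_of_not_supp hs
    obtain ⟨hlt, hi, hj, hφ⟩ := h.cTerms_spec hk.2 hs.1.2 c hc
    refine h.mem_outSet_of_coef_pos hlt hl hlJ ?_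
    rw [hφ _ (h.isAdd_coef hl)]
    have h1 := h.coef_nonneg hl hk.2 hk.1
    have h2 : (0 : ℤ) < (c.2.2.2 : ℤ) := by exact_mod_cast hj
    positivity
  have hH := hh.diagonal_le_normalizer (F := F) (S := outSet D C J) outSet_lt
  refine sup_le (sup_le hU hH) ((Subgroup.closure_le _).2 ?_)
  rintro g ⟨j, hjJ, hj, e⟩
  have hg : g = nS h F j := Units.ext (by rw [e, coe_nS _ hj])
  subst hg
  have hconj : ∀ a ∈ rootGen D F (outSet D C J),
      nS h F j * a * (nS h F j)⁻¹ ∈ rootGen D F (outSet D C J) := by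
    intro a ha
    have := h.conj_rootGen_le (F := F) (L := [j]) (by simp [IsWord, hj]) outSet_lt
      (M := rootGen D F (outSet D C J)) (fun r hr hrS t => mem_rootGen (t := t) ?_ (coe_xGL _ _ _)) ha
    · rwa [nProd_singleton] at this
    · have := h.outSet_weyl hJ (h.sigma_mem_weyl (i := j) (by exact_mod_cast hjJ)) (r := ⟨r, hr⟩) hrS
      rw [h.sigma_val hj] at this
      simpa [perm] using this
  rw [SetLike.mem_coe, Subgroup.mem_normalizer_iff]
  intro a
  refine ⟨hconj a, fun ha => ?_⟩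
  have hsq := (Subgroup.mem_normalizer_iff.1 (hH (inv_mem (hh.nS_sq (F := F) hj))) _).1 (hconj _ ha)
  convert hsq using 1
  group

theorem levi_decomposition {J : Finset ℕ} (hJ : J ⊆ Finset.range D.rank) :
    rootGen D F (outSet D C J) ⊔ (D.diagonalSubgroup F ⊔ rootGen D F (subSet D C J)) =
      D.parabolicSubgroup F (J : Set ℕ) ∧
    rootGen D F (outSet D C J) ⊓ (D.diagonalSubgroup F ⊔ rootGen D F (subSet D C J)) = ⊥ := by
  have h := hh.toChecked
  constructor
  · rw [hh.parabolic_eq hJ]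
    refine le_antisymm (sup_le (le_trans (rootGen_mono fun r hr => by exact Or.inl hr.1) le_sup_right)
      (sup_le le_sup_left (le_trans (rootGen_mono Set.subset_union_right) le_sup_right))) (sup_le ?_ ?_)
    · exact le_trans le_sup_left le_sup_right
    · refine (Subgroup.closure_le _).2 ?_
      rintro g ⟨r, t, hr, e⟩
      by_cases hs : Supp D C J r
      · refine Subgroup.mem_sup_right (Subgroup.mem_sup_right (mem_rootGen ⟨?_, hs⟩ e))
        rcases hr with hr | hr
        · exact hr.2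
        · exact hr.1
      · rcases hr with hr | hr
        · exact Subgroup.mem_sup_left (mem_rootGen ⟨hr, hs⟩ e)
        · exact absurd hr.2 hs
  · rw [eq_bot_iff]
    rintro g ⟨hu, hl⟩
    have h1 : Raises (wgt D (outWt D C J)) 1 ((g : Matrix D.Idx D.Idx F) - 1) := by
      refine (raises_of_mem_closure (by norm_num) ?_ hu).1
      rintro x ⟨r, t, hr, e⟩
      rw [h.rootGen_inv_mem (S := outSet D C J) outSet_lt hr e, e]
      exact ⟨h.raises_x_out hr t, h.raises_x_out hr (-t)⟩
    have hle : D.diagonalSubgroup F ⊔ rootGen D F (subSet D C J) ≤ gradedGroup D F (wgt D (outWt D C J)) := by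
      refine sup_le (fun x hx => mem_gradedGroup_iff.2 fun y z hne => ?_) ((Subgroup.closure_le _).2 ?_)
      · rw [hh.diagonalSubgroup_eq] at hx
        obtain ⟨c, rfl⟩ := hx
        rw [coe_torusHom] at hne
        by_contra e
        exact hne (isDiag_charDiag _ fun e' => e (by rw [e']))
      · rintro x ⟨r, t, hr, e⟩
        exact mem_gradedGroup_iff.2 fun y z hne => h.graded_x hr t (e ▸ hne)
    have h2 := mem_gradedGroup_iff.1 (hle hl)
    refine Subgroup.mem_bot.2 (Units.ext ?_)
    rw [Units.val_one]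
    ext y x
    by_contra hne
    have h3 := h1 y x (by rw [Matrix.sub_apply]; exact sub_ne_zero.2 hne)
    by_cases e : y = x
    · subst e; omega
    · rw [Matrix.one_apply_ne e] at hne
      have := h2 y x hne
      omega

theorem not_mem_rootGen_out {J : Finset ℕ} {i : ℕ} (hi : i < D.rank) (hiJ : i ∉ J) :
    nS hh.toChecked F i ∉ Subgroup.normalizer (rootGen D F (outSet D C J) : Set (GL D.Idx F)) := by
  have h := hh.toChecked
  intro hn
  have hp := h.simple_spec hi
  have hmem : xGL h F hp.1 1 ∈ rootGen D F (outSet D C J) :=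
    mem_rootGen (h.mem_outSet_of_coef_pos hp.1 hi hiJ (by rw [(h.simple_tab hi hi).2.1]; simp)) rfl
  have h1 := (Subgroup.mem_normalizer_iff.1 hn _).1 hmem
  rw [h.nS_conj_x hi hp.1, mul_inv_cancel_right] at h1
  have h2 := h.xGL_mem_neg (F := F) (h.refl_lt hi hp.1)
    (by rw [h.simple_refl hi]; have := h.two_mul_half; have := hp.2; have := hp.1; unfold ng; omega)
    ((eta C i (D.simple i) : F) * 1)
  have hB : rootGen D F (outSet D C J) ≤ D.borelSubgroup F := by
    refine le_trans (rootGen_mono (show outSet D C J ⊆ posSet D from fun r hr => hr.1)) ?_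
    rw [← h.posUnipotent_eq]
    exact le_sup_left
  have h3 := hh.borel_inf_negUnipotent.le (Subgroup.mem_inf.2 ⟨hB h1, h2⟩)
  rw [Subgroup.mem_bot] at h3
  have h4 := congrArg Units.val h3
  rw [coe_xGL, Units.val_one, h.x_eq_one_iff (h.refl_lt hi hp.1), mul_one] at h4
  rcases eta_cases (C := C) i (D.simple i) with w | w <;> simp [w] at h4

theorem normalizer_radical {J : Finset ℕ} (hJ : J ⊆ Finset.range D.rank) :
    Subgroup.normalizer (rootGen D F (outSet D C J) : Set (GL D.Idx F)) ⊓ D.group F =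
      D.parabolicSubgroup F (J : Set ℕ) := by
  have h := hh.toChecked
  set Nm := Subgroup.normalizer (rootGen D F (outSet D C J) : Set (GL D.Idx F)) with hNm
  refine le_antisymm ?_ (le_inf (hh.parabolic_le_normalizer_any hJ) (hh.parabolic_le_group J))
  let P := hh.bnPair F
  have hPB : P.B = (D.borelSubgroup F).subgroupOf (D.group F) := rfl
  obtain ⟨K, hKS, hK⟩ := BNPair.exists_eq_parabolic P ((Nm ⊓ D.group F).subgroupOf (D.group F)) (by
    intro b hb
    rw [hPB, Subgroup.mem_subgroupOf] at hb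
    rw [Subgroup.mem_subgroupOf]
    exact Subgroup.mem_inf.2 ⟨hh.parabolic_le_normalizer_any hJ (Subgroup.mem_sup_left hb), b.2⟩)
  intro g hg
  have hle : P.parabolic K ≤ (D.parabolicSubgroup F (J : Set ℕ)).subgroupOf (D.group F) := by
    refine sup_le (fun b hb => ?_) ((Subgroup.closure_le _).2 fun s hs => ?_)
    · rw [hPB, Subgroup.mem_subgroupOf] at hb
      exact Subgroup.mem_subgroupOf.2 (Subgroup.mem_sup_left hb)
    · obtain ⟨i, hi, e⟩ := hKS hs
      have hs' : s ∈ (Nm ⊓ D.group F).subgroupOf (D.group F) := by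
        rw [hK]; exact Subgroup.mem_sup_right (Subgroup.subset_closure hs)
      have es : (s : GL D.Idx F) = nS hh.toChecked F i := Units.ext (by rw [e, coe_nS _ hi])
      rw [Subgroup.mem_subgroupOf, Subgroup.mem_inf, es] at hs'
      have hiJ : i ∈ J := by_contra fun hn => hh.not_mem_rootGen_out hi hn hs'.1
      exact Subgroup.mem_subgroupOf.2 (es ▸ hh.nS_mem_parabolic hiJ hi)
  have : (⟨g, hg.2⟩ : ↥(D.group F)) ∈ P.parabolic K := hK ▸ Subgroup.mem_subgroupOf.2 hg
  exact Subgroup.mem_subgroupOf.1 (hle this)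

end Rooted

end Cfsg.Agent.Lib.Chev
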