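import Cfsg.Agent.Lib.Chev.Orders
import Cfsg.Agent.Lib.Chev.All

/-! Orbit and Smith-form certificates for the type E6 (written out by a script from the Cartan matrix). -/

set_option autoImplicit false

namespace Cfsg.Agent.Lib.Chev.E6

/-- Orbit 0. -/
def orbit0 : OrbitCert where
  node := 0
  orbit := [[1, 0, 0, 0, 0, 0], [-1, 0, 1, 0, 0, 0], [0, 0, -1, 1, 0, 0], [0, 1, 0, -1, 1, 0], [0, -1, 0, 0, 1, 0], [0, 1, 0, 0, -1, 1], [0, -1, 0, 1, -1, 1], [0, 1, 0, 0, 0, -1], [0, 0, 1, -1, 0, 1], [0, -1, 0, 1, 0, -1], [1, 0, -1, 0, 0, 1], [0, 0, 1, -1, 1, -1], [-1, 0, 0, 0, 0, 1], [1, 0, -1, 0, 1, -1], [0, 0, 1, 0, -1, 0], [-1, 0, 0, 0, 1, -1], [1, 0, -1, 1, -1, 0], [-1, 0, 0, 1, -1, 0], [1, 1, 0, -1, 0, 0], [-1, 1, 1, -1, 0, 0], [1, -1, 0, 0, 0, 0], [-1, -1, 1, 0, 0, 0], [0, 1, -1, 0, 0, 0], [0, -1, -1,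 1, 0, 0], [0, 0, 0, -1, 1, 0], [0, 0, 0, 0, -1, 1], [0, 0, 0, 0, 0, -1]]
  parent := [(0, 0), (1, 2), (2, 3), (3, 1), (3, 4), (4, 4), (5, 5), (6, 3), (6, 5), (8, 2), (8, 5), (10, 0), (10, 5), (11, 4), (12, 5), (13, 4), (15, 4), (16, 3), (17, 3), (18, 1), (19, 1), (19, 2), (21, 2), (23, 3), (24, 4), (25, 5)]
  target := [[1, 0, 0, 0, 0, 0], [0, 1, 2, 1, 1, 1], [2, 2, 1, 3, 2, 2], [3, 4, 3, 2, 5, 3], [4, 3, 4, 4, 6, 4], [5, 6, 5, 5, 3, 7], [6, 5, 6, 8, 4, 9], [7, 9, 7, 7, 7, 5], [8, 8, 10, 6, 8, 11], [9, 7, 9, 11, 9, 6], [12, 10, 8, 10, 10, 13], [11, 11, 13, 9, 14, 8], [10, 12, 12, 12, 12, 15], [15, 13, 11, 13, 16, 10], [14, 14, 16, 14, 11, 14], [13, 15, 15, 15, 17, 12], [17, 16, 14, 18, 13, 16], [16, 17, 17, 19, 15, 17], [19, 20, 18, 16, 18, 18], [18, 21, 22, 17, 19, 19], [21, 18, 20, 20, 20, 20],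 [20, 19, 23, 21, 21, 21], [22, 23, 19, 22, 22, 22], [23, 22, 21, 24, 23, 23], [24, 24, 24, 23, 25, 24], [25, 25, 25, 25, 24, 26], [26, 26, 26, 26, 26, 25]]

/-- Orbit 1. -/
def orbit1 : OrbitCert where
  node := 5
  orbit := [[0, 0, 0, 0, 0, 1], [0, 0, 0, 0, 1, -1], [0, 0, 0, 1, -1, 0], [0, 1, 1, -1, 0, 0], [0, -1, 1, 0, 0, 0], [1, 1, -1, 0, 0, 0], [1, -1, -1, 1, 0, 0], [1, 0, 0, -1, 1, 0], [1, 0, 0, 0, -1, 1], [1, 0, 0, 0, 0, -1]]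
  parent := [(0, 5), (1, 4), (2, 3), (3, 1), (3, 2), (4, 2), (6, 3), (7, 4), (8, 5)]
  target := [[0, 0, 0, 0, 1], [1, 1, 1, 2, 0], [2, 2, 3, 1, 2], [4, 5, 2, 3, 3], [3, 6, 4, 4, 4], [6, 3, 5, 5, 5], [5, 4, 7, 6, 6], [7, 7, 6, 8, 7], [8, 8, 8, 7, 9], [9, 9, 9, 9, 8]]

/-- Orbit 2. -/
def orbit2 : OrbitCert where
  node := 1
  orbit := [[0, 1, 0, 0, 0, 0], [0, -1, 0, 1, 0, 0], [0, 0, 1, -1, 1, 0], [1, 0, -1, 0, 1, 0], [0, 0, 1, 0, -1, 1], [1, 0, -1, 1, -1, 1], [1, 1, 0, -1, 0, 1], [1, -1, 0, 0, 0, 1]]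
  parent := [(0, 1), (1, 3), (2, 2), (2, 4), (3, 4), (5, 3), (6, 1)]
  target := [[1, 0, 0, 0], [0, 1, 2, 1], [2, 3, 1, 4], [3, 2, 3, 5], [4, 5, 4, 2], [5, 4, 6, 3], [7, 6, 5, 6], [6, 7, 7, 7]]

/-- Orbit 3. -/
def orbit3 : OrbitCert where
  node := 2
  orbit := [[0, 0, 1, 0, 0, 0], [1, 0, -1, 1, 0, 0], [1, 1, 0, -1, 1, 0], [1, 1, 0, 0, -1, 1]]
  parent := [(0, 2), (1, 3), (2, 4)]
  target := [[1, 0, 0], [0, 2, 1], [2, 1, 3], [3, 3, 2]]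

/-- Orbit 4. -/
def orbit4 : OrbitCert where
  node := 3
  orbit := [[0, 0, 0, 1, 0, 0], [0, 1, 1, -1, 1, 0], [0, 1, 1, 0, -1, 1]]
  parent := [(0, 3), (1, 4)]
  target := [[1, 0], [0, 2], [2, 1]]

/-- Orbit 5. -/
def orbit5 : OrbitCert where
  node := 4
  orbit := [[0, 0, 0, 0, 1, 0], [0, 0, 0, 1, -1, 1]]
  parent := [(0, 4)]
  target := [[1], [0]]

/-- The chain of parabolic orbits. -/
def orbits : List OrbitCert := [orbit0, orbit1, orbit2, orbit3, orbit4, orbit5]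

/-- The degrees. -/
def degs : List ℕ := [2, 5, 6, 8, 9, 12]

theorem chain_ok : chkChain Cfsg.Lie.chevE6 cert (List.range Cfsg.Lie.chevE6.rank) orbits = true := by decide +kernel

theorem poly_ok : chkPoly Cfsg.Lie.chevE6 cert orbits degs = true := by decide +kernel

theorem smith_ok : SmithOK Cfsg.Lie.chevE6 cert [1, 1, 1, 1, 1, 3] :=
  ⟨[[-1, 0, 0, 0, 0, 0], [0, -1, 0, 0, 0, 0], [1, -2, 0, -1, 0, 0], [2, -3, 0, -2, -1, 0], [-2, 1, -1, 0, 0, 0], [-5, 0, -4, -3, -2, -1]], [[-1, 0, 0, 0, 0, 0], [0, -1, 0, 0, 0, 0], [2, -1, 0, 0, -1, 0], [-1, 2, -1, 0, 0, 0], [0, -1, 2, -1, 0, 0], [0, 0, -1, 2, 4, -1]], [[0, 0, 0, 0, 1, -2], [0, 0, 0, 0, 2, -3], [1, 0, 0, 0, 2, -4], [0, 1, 0, 0, 4, -6], [0, 0, 1, 0, 4, -5], [0, 0, 0, 1, 4, -4]], [[-2, 0, 1, 0, 0, 0], [0, -2, 0, 1, 0, 0], [2, -3, 0, 0, 1, 0], [4, -4,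 0, 0, 0, 1], [-3, 2, 0, 0, 0, 0], [-2, 1, 0, 0, 0, 0]], by decide +kernel⟩

end Cfsg.Agent.Lib.Chev.E6
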