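import Cfsg.Agent.Lib.Chev.Orders
import Cfsg.Agent.Lib.Chev.All

/-! Orbit and Smith-form certificates for the type E7 (written out by a script from the Cartan matrix). -/

set_option autoImplicit false

namespace Cfsg.Agent.Lib.Chev.E7

/-- Orbit 0. -/
def orbit0 : OrbitCert where
  node := 6
  orbit := [[0, 0, 0, 0, 0, 0, 1], [0, 0, 0, 0, 0, 1, -1], [0, 0, 0, 0, 1, -1, 0], [0, 0, 0, 1, -1, 0, 0], [0, 1, 1, -1, 0, 0, 0], [0, -1, 1, 0, 0, 0, 0], [1, 1, -1, 0, 0, 0, 0], [1, -1, -1, 1, 0, 0, 0], [-1, 1, 0, 0, 0, 0, 0], [-1, -1, 0, 1, 0, 0, 0], [1, 0, 0, -1, 1, 0, 0], [-1, 0, 1, -1, 1, 0, 0], [1, 0, 0, 0, -1, 1, 0], [0, 0, -1, 0, 1, 0, 0], [-1, 0, 1, 0, -1, 1, 0], [1, 0, 0, 0, 0, -1, 1], [0, 0, -1, 1, -1, 1, 0], [-1, 0, 1, 0, 0, -1, 1], [1, 0, 0, 0, 0, 0, -1], [0, 1, 0, -1, 0, 1,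 0], [0, 0, -1, 1, 0, -1, 1], [-1, 0, 1, 0, 0, 0, -1], [0, -1, 0, 0, 0, 1, 0], [0, 1, 0, -1, 1, -1, 1], [0, 0, -1, 1, 0, 0, -1], [0, -1, 0, 0, 1, -1, 1], [0, 1, 0, 0, -1, 0, 1], [0, 1, 0, -1, 1, 0, -1], [0, -1, 0, 1, -1, 0, 1], [0, -1, 0, 0, 1, 0, -1], [0, 1, 0, 0, -1, 1, -1], [0, 0, 1, -1, 0, 0, 1], [0, -1, 0, 1, -1, 1, -1], [0, 1, 0, 0, 0, -1, 0], [1, 0, -1, 0, 0, 0, 1], [0, 0, 1, -1, 0, 1, -1], [0, -1, 0, 1, 0, -1, 0], [-1, 0, 0, 0, 0, 0, 1], [1, 0, -1, 0, 0, 1, -1], [0, 0, 1, -1, 1, -1, 0], [-1, 0, 0, 0, 0, 1, -1], [1, 0, -1, 0, 1, -1, 0], [0, 0, 1, 0, -1, 0, 0], [-1, 0, 0, 0, 1, -1, 0], [1, 0, -1, 1, -1, 0, 0], [-1, 0, 0, 1, -1, 0, 0], [1, 1, 0, -1, 0, 0, 0], [-1, 1, 1, -1, 0, 0, 0], [1, -1, 0, 0, 0, 0, 0], [-1, -1, 1, 0, 0, 0, 0], [0, 1, -1, 0, 0, 0, 0], [0, -1, -1, 1, 0,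 0, 0], [0, 0, 0, -1, 1, 0, 0], [0, 0, 0, 0, -1, 1, 0], [0, 0, 0, 0, 0, -1, 1], [0, 0, 0, 0, 0, 0, -1]]
  parent := [(0, 6), (1, 5), (2, 4), (3, 3), (4, 1), (4, 2), (5, 2), (6, 0), (7, 0), (7, 3), (9, 3), (10, 4), (11, 2), (11, 4), (12, 5), (13, 4), (14, 5), (15, 6), (16, 3), (16, 5), (17, 6), (19, 1), (19, 5), (20, 6), (22, 5), (23, 4), (23, 6), (25, 4), (25, 6), (26, 6), (28, 3), (28, 6), (30, 5), (31, 2), (31, 6), (32, 5), (34, 0), (34, 6), (35, 5), (37, 6), (38, 5), (39, 4), (40, 5), (41, 4), (43, 4), (44, 3), (45, 3), (46, 1), (47, 1), (47, 2), (49, 2), (51, 3), (52, 4), (53, 5), (54, 6)]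
  target := [[0, 0, 0, 0, 0, 0, 1], [1, 1, 1, 1, 1, 2, 0], [2, 2, 2, 2, 3, 1, 2], [3, 3, 3, 4, 2, 3, 3], [4, 5, 6, 3, 4, 4, 4], [5, 4, 7, 5, 5, 5, 5], [8, 7, 4, 6, 6, 6, 6], [9, 6, 5, 10, 7, 7, 7], [6, 9, 8, 8, 8, 8, 8], [7, 8, 9, 11, 9, 9, 9], [11, 10, 10, 7, 12, 10, 10], [10, 11, 13, 9, 14, 11, 11], [14, 12, 12, 12, 10, 15, 12], [13, 13, 11, 13, 16, 13, 13], [12, 14, 16, 14, 11, 17, 14], [17, 15, 15, 15, 15, 12, 18], [16, 16, 14, 19, 13, 20, 16], [15, 17, 20, 17, 17, 14, 21], [21, 18, 18, 18, 18, 18, 15], [19, 22, 19, 16, 19, 23, 19], [20, 20, 17, 23, 20, 16, 24], [18, 21, 24, 21, 21, 21, 17], [22, 19, 22, 22, 22, 25, 22], [23, 25, 23, 20, 26, 19, 27], [24, 24, 21, 27, 24, 24, 20], [25, 23, 25, 25, 28, 22, 29], [26, 28, 26, 26, 23, 26, 30], [27, 29, 27, 24, 30, 27, 23], [28,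 26, 28, 31, 25, 28, 32], [29, 27, 29, 29, 32, 29, 25], [30, 32, 30, 30, 27, 33, 26], [31, 31, 34, 28, 31, 31, 35], [32, 30, 32, 35, 29, 36, 28], [33, 36, 33, 33, 33, 30, 33], [37, 34, 31, 34, 34, 34, 38], [35, 35, 38, 32, 35, 39, 31], [36, 33, 36, 39, 36, 32, 36], [34, 37, 37, 37, 37, 37, 40], [40, 38, 35, 38, 38, 41, 34], [39, 39, 41, 36, 42, 35, 39], [38, 40, 40, 40, 40, 43, 37], [43, 41, 39, 41, 44, 38, 41], [42, 42, 44, 42, 39, 42, 42], [41, 43, 43, 43, 45, 40, 43], [45, 44, 42, 46, 41, 44, 44], [44, 45, 45, 47, 43, 45, 45], [47, 48, 46, 44, 46, 46, 46], [46, 49, 50, 45, 47, 47, 47], [49, 46, 48, 48, 48, 48, 48], [48, 47, 51, 49, 49, 49, 49], [50, 51, 47, 50, 50, 50, 50], [51, 50, 49, 52, 51, 51, 51], [52, 52, 52, 51, 53, 52, 52], [53, 53, 53, 53, 52, 54, 53], [54, 54, 54,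 54, 54, 53, 55], [55, 55, 55, 55, 55, 55, 54]]

/-- Orbit 1. -/
def orbit1 : OrbitCert where
  node := 0
  orbit := [[1, 0, 0, 0, 0, 0, 0], [-1, 0, 1, 0, 0, 0, 0], [0, 0, -1, 1, 0, 0, 0], [0, 1, 0, -1, 1, 0, 0], [0, -1, 0, 0, 1, 0, 0], [0, 1, 0, 0, -1, 1, 0], [0, -1, 0, 1, -1, 1, 0], [0, 1, 0, 0, 0, -1, 1], [0, 0, 1, -1, 0, 1, 0], [0, -1, 0, 1, 0, -1, 1], [1, 0, -1, 0, 0, 1, 0], [0, 0, 1, -1, 1, -1, 1], [-1, 0, 0, 0, 0, 1, 0], [1, 0, -1, 0, 1, -1, 1], [0, 0, 1, 0, -1, 0, 1], [-1, 0, 0, 0, 1, -1, 1], [1, 0, -1, 1, -1, 0, 1], [-1, 0, 0, 1, -1, 0, 1], [1, 1, 0, -1, 0, 0, 1], [-1, 1, 1, -1, 0, 0, 1], [1, -1, 0, 0, 0, 0, 1], [-1, -1, 1, 0, 0, 0, 1], [0, 1, -1, 0, 0, 0, 1], [0, -1, -1, 1, 0, 0, 1], [0, 0, 0, -1, 1, 0, 1], [0, 0, 0, 0, -1, 1, 1], [0, 0, 0, 0, 0, -1, 2]]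
  parent := [(0, 0), (1, 2), (2, 3), (3, 1), (3, 4), (4, 4), (5, 5), (6, 3), (6, 5), (8, 2), (8, 5), (10, 0), (10, 5), (11, 4), (12, 5), (13, 4), (15, 4), (16, 3), (17, 3), (18, 1), (19, 1), (19, 2), (21, 2), (23, 3), (24, 4), (25, 5)]
  target := [[1, 0, 0, 0, 0, 0], [0, 1, 2, 1, 1, 1], [2, 2, 1, 3, 2, 2], [3, 4, 3, 2, 5, 3], [4, 3, 4, 4, 6, 4], [5, 6, 5, 5, 3, 7], [6, 5, 6, 8, 4, 9], [7, 9, 7, 7, 7, 5], [8, 8, 10, 6, 8, 11], [9, 7, 9, 11, 9, 6], [12, 10, 8, 10, 10, 13], [11, 11, 13, 9, 14, 8], [10, 12, 12, 12, 12, 15], [15, 13, 11, 13, 16, 10], [14, 14, 16, 14, 11, 14], [13, 15, 15, 15, 17, 12], [17, 16, 14, 18, 13, 16], [16, 17, 17, 19, 15, 17], [19, 20, 18, 16, 18, 18], [18, 21, 22, 17, 19, 19], [21, 18, 20, 20, 20, 20], [20, 19, 23, 21, 21, 21], [22, 23, 19, 22, 22, 22],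 [23, 22, 21, 24, 23, 23], [24, 24, 24, 23, 25, 24], [25, 25, 25, 25, 24, 26], [26, 26, 26, 26, 26, 25]]

/-- Orbit 2. -/
def orbit2 : OrbitCert where
  node := 5
  orbit := [[0, 0, 0, 0, 0, 1, 0], [0, 0, 0, 0, 1, -1, 1], [0, 0, 0, 1, -1, 0, 1], [0, 1, 1, -1, 0, 0, 1], [0, -1, 1, 0, 0, 0, 1], [1, 1, -1, 0, 0, 0, 1], [1, -1, -1, 1, 0, 0, 1], [1, 0, 0, -1, 1, 0, 1], [1, 0, 0, 0, -1, 1, 1], [1, 0, 0, 0, 0, -1, 2]]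
  parent := [(0, 5), (1, 4), (2, 3), (3, 1), (3, 2), (4, 2), (6, 3), (7, 4), (8, 5)]
  target := [[0, 0, 0, 0, 1], [1, 1, 1, 2, 0], [2, 2, 3, 1, 2], [4, 5, 2, 3, 3], [3, 6, 4, 4, 4], [6, 3, 5, 5, 5], [5, 4, 7, 6, 6], [7, 7, 6, 8, 7], [8, 8, 8, 7, 9], [9, 9, 9, 9, 8]]

/-- Orbit 3. -/
def orbit3 : OrbitCert where
  node := 1
  orbit := [[0, 1, 0, 0, 0, 0, 0], [0, -1, 0, 1, 0, 0, 0], [0, 0, 1, -1, 1, 0, 0], [1, 0, -1, 0, 1, 0, 0], [0, 0, 1, 0, -1, 1, 0], [1, 0, -1, 1, -1, 1, 0], [1, 1, 0, -1, 0, 1, 0], [1, -1, 0, 0, 0, 1, 0]]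
  parent := [(0, 1), (1, 3), (2, 2), (2, 4), (3, 4), (5, 3), (6, 1)]
  target := [[1, 0, 0, 0], [0, 1, 2, 1], [2, 3, 1, 4], [3, 2, 3, 5], [4, 5, 4, 2], [5, 4, 6, 3], [7, 6, 5, 6], [6, 7, 7, 7]]

/-- Orbit 4. -/
def orbit4 : OrbitCert where
  node := 2
  orbit := [[0, 0, 1, 0, 0, 0, 0], [1, 0, -1, 1, 0, 0, 0], [1, 1, 0, -1, 1, 0, 0], [1, 1, 0, 0, -1, 1, 0]]
  parent := [(0, 2), (1, 3), (2, 4)]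
  target := [[1, 0, 0], [0, 2, 1], [2, 1, 3], [3, 3, 2]]

/-- Orbit 5. -/
def orbit5 : OrbitCert where
  node := 3
  orbit := [[0, 0, 0, 1, 0, 0, 0], [0, 1, 1, -1, 1, 0, 0], [0, 1, 1, 0, -1, 1, 0]]
  parent := [(0, 3), (1, 4)]
  target := [[1, 0], [0, 2], [2, 1]]

/-- Orbit 6. -/
def orbit6 : OrbitCert where
  node := 4
  orbit := [[0, 0, 0, 0, 1, 0, 0], [0, 0, 0, 1, -1, 1, 0]]
  parent := [(0, 4)]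
  target := [[1], [0]]

/-- The chain of parabolic orbits. -/
def orbits : List OrbitCert := [orbit0, orbit1, orbit2, orbit3, orbit4, orbit5, orbit6]

/-- The degrees. -/
def degs : List ℕ := [2, 6, 8, 10, 12, 14, 18]

theorem chain_ok : chkChain Cfsg.Lie.chevE7 cert (List.range Cfsg.Lie.chevE7.rank) orbits = true := by decide +kernel

theorem poly_ok : chkPoly Cfsg.Lie.chevE7 cert orbits degs = true := by decide +kernel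

theorem smith_ok : SmithOK Cfsg.Lie.chevE7 cert [1, 1, 1, 1, 1, 1, 2] :=
  ⟨[[-1, 0, 0, 0, 0, 0, 0], [0, -1, 0, 0, 0, 0, 0], [1, -2, 0, -1, 0, 0, 0], [2, -3, 0, -2, -1, 0, 0], [3, -4, 0, -3, -2, -1, 0], [-2, 1, -1, 0, 0, 0, 0], [-4, -1, -4, -4, -3, -2, -1]], [[-1, 0, 0, 0, 0, 0, 0], [0, -1, 0, 0, 0, 0, 0], [2, -1, 0, 0, 0, -1, 0], [-1, 2, -1, 0, 0, 0, 0], [0, -1, 2, -1, 0, 0, 0], [0, 0, -1, 2, -1, 0, 0], [0, 0, 0, -1, 2, 4, -1]], [[0, 0, 0, 0, 0, 1, -2], [0, 0, 0, 0, 0, 2, -3], [1, 0, 0, 0, 0, 2, -4], [0, 1, 0, 0, 0, 4, -6], [0, 0, 1, 0, 0, 4, -5], [0, 0, 0, 1, 0, 4, -4], [0, 0, 0, 0, 1, 4, -3]], [[-2, 0, 1, 0, 0, 0, 0], [0, -2, 0, 1, 0, 0, 0], [2, -3, 0, 0, 1, 0, 0], [4, -4, 0, 0, 0, 1, 0], [6, -5, 0, 0, 0, 0, 1], [-3, 2, 0, 0, 0, 0, 0], [-2, 1, 0, 0, 0, 0, 0]], by decide +kernel⟩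

end Cfsg.Agent.Lib.Chev.E7
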