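import Cfsg.Agent.Lib.Chev.Orders
import Cfsg.Agent.Lib.Chev.All

/-! Orbit and Smith-form certificates for the type E8 (written out by a script from the Cartan matrix). -/

set_option autoImplicit false

namespace Cfsg.Agent.Lib.Chev.E8

/-- Orbit 0. -/
def orbit0 : OrbitCert where
  node := 7
  orbit := [[0, 0, 0, 0, 0, 0, 0, 1], [0, 0, 0, 0, 0, 0, 1, -1], [0, 0, 0, 0, 0, 1, -1, 0], [0, 0, 0, 0, 1, -1, 0, 0], [0, 0, 0, 1, -1, 0, 0, 0], [0, 1, 1, -1, 0, 0, 0, 0], [0, -1, 1, 0, 0, 0, 0, 0], [1, 1, -1, 0, 0, 0, 0, 0], [1, -1, -1, 1, 0, 0, 0, 0], [-1, 1, 0, 0, 0, 0, 0, 0], [-1, -1, 0, 1, 0, 0, 0, 0], [1, 0, 0, -1, 1, 0, 0, 0], [-1, 0, 1, -1, 1, 0, 0, 0], [1, 0, 0, 0, -1, 1, 0, 0], [0, 0, -1, 0, 1, 0, 0, 0], [-1, 0, 1, 0, -1, 1, 0, 0], [1, 0, 0, 0, 0, -1, 1, 0], [0, 0, -1, 1, -1, 1, 0, 0], [-1, 0, 1, 0, 0, -1,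 1, 0], [1, 0, 0, 0, 0, 0, -1, 1], [0, 1, 0, -1, 0, 1, 0, 0], [0, 0, -1, 1, 0, -1, 1, 0], [-1, 0, 1, 0, 0, 0, -1, 1], [1, 0, 0, 0, 0, 0, 0, -1], [0, -1, 0, 0, 0, 1, 0, 0], [0, 1, 0, -1, 1, -1, 1, 0], [0, 0, -1, 1, 0, 0, -1, 1], [-1, 0, 1, 0, 0, 0, 0, -1], [0, -1, 0, 0, 1, -1, 1, 0], [0, 1, 0, 0, -1, 0, 1, 0], [0, 1, 0, -1, 1, 0, -1, 1], [0, 0, -1, 1, 0, 0, 0, -1], [0, -1, 0, 1, -1, 0, 1, 0], [0, -1, 0, 0, 1, 0, -1, 1], [0, 1, 0, 0, -1, 1, -1, 1], [0, 1, 0, -1, 1, 0, 0, -1], [0, 0, 1, -1, 0, 0, 1, 0], [0, -1, 0, 1, -1, 1, -1, 1], [0, -1, 0, 0, 1, 0, 0, -1], [0, 1, 0, 0, 0, -1, 0, 1], [0, 1, 0, 0, -1, 1, 0, -1], [1, 0, -1, 0, 0, 0, 1, 0], [0, 0, 1, -1, 0, 1, -1, 1], [0, -1, 0, 1, 0, -1, 0, 1], [0, -1, 0, 1, -1, 1, 0, -1], [0, 1, 0, 0, 0, -1, 1, -1], [-1, 0, 0, 0, 0, 0, 1, 0], [1, 0, -1, 0, 0, 1, -1, 1], [0, 0,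 1, -1, 1, -1, 0, 1], [0, 0, 1, -1, 0, 1, 0, -1], [0, -1, 0, 1, 0, -1, 1, -1], [0, 1, 0, 0, 0, 0, -1, 0], [-1, 0, 0, 0, 0, 1, -1, 1], [1, 0, -1, 0, 1, -1, 0, 1], [1, 0, -1, 0, 0, 1, 0, -1], [0, 0, 1, 0, -1, 0, 0, 1], [0, 0, 1, -1, 1, -1, 1, -1], [0, -1, 0, 1, 0, 0, -1, 0], [-1, 0, 0, 0, 1, -1, 0, 1], [-1, 0, 0, 0, 0, 1, 0, -1], [1, 0, -1, 1, -1, 0, 0, 1], [1, 0, -1, 0, 1, -1, 1, -1], [0, 0, 1, 0, -1, 0, 1, -1], [0, 0, 1, -1, 1, 0, -1, 0], [-1, 0, 0, 1, -1, 0, 0, 1], [-1, 0, 0, 0, 1, -1, 1, -1], [1, 1, 0, -1, 0, 0, 0, 1], [1, 0, -1, 1, -1, 0, 1, -1], [1, 0, -1, 0, 1, 0, -1, 0], [0, 0, 1, 0, -1, 1, -1, 0], [-1, 1, 1, -1, 0, 0, 0, 1], [-1, 0, 0, 1, -1, 0, 1, -1], [-1, 0, 0, 0, 1, 0, -1, 0], [1, -1, 0, 0, 0, 0, 0, 1], [1, 1, 0, -1, 0, 0, 1, -1], [1, 0, -1, 1, -1, 1, -1, 0], [0, 0, 1, 0, 0, -1, 0, 0], [-1, -1, 1,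 0, 0, 0, 0, 1], [0, 1, -1, 0, 0, 0, 0, 1], [-1, 1, 1, -1, 0, 0, 1, -1], [-1, 0, 0, 1, -1, 1, -1, 0], [1, -1, 0, 0, 0, 0, 1, -1], [1, 1, 0, -1, 0, 1, -1, 0], [1, 0, -1, 1, 0, -1, 0, 0], [0, -1, -1, 1, 0, 0, 0, 1], [-1, -1, 1, 0, 0, 0, 1, -1], [0, 1, -1, 0, 0, 0, 1, -1], [-1, 1, 1, -1, 0, 1, -1, 0], [-1, 0, 0, 1, 0, -1, 0, 0], [1, -1, 0, 0, 0, 1, -1, 0], [1, 1, 0, -1, 1, -1, 0, 0], [0, 0, 0, -1, 1, 0, 0, 1], [0, -1, -1, 1, 0, 0, 1, -1], [-1, -1, 1, 0, 0, 1, -1, 0], [0, 1, -1, 0, 0, 1, -1, 0], [-1, 1, 1, -1, 1, -1, 0, 0], [1, -1, 0, 0, 1, -1, 0, 0], [1, 1, 0, 0, -1, 0, 0, 0], [0, 0, 0, 0, -1, 1, 0, 1], [0, 0, 0, -1, 1, 0, 1, -1], [0, -1, -1, 1, 0, 1, -1, 0], [-1, -1, 1, 0, 1, -1, 0, 0], [0, 1, -1, 0, 1, -1, 0, 0], [-1, 1, 1, 0, -1, 0, 0, 0], [1, -1, 0, 1, -1, 0, 0, 0], [0, 0, 0, 0, 0, -1, 1, 1], [0, 0, 0, 0,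 -1, 1, 1, -1], [0, 0, 0, -1, 1, 1, -1, 0], [0, -1, -1, 1, 1, -1, 0, 0], [-1, -1, 1, 1, -1, 0, 0, 0], [0, 1, -1, 1, -1, 0, 0, 0], [1, 0, 1, -1, 0, 0, 0, 0], [0, 0, 0, 0, 0, 0, -1, 2], [0, 0, 0, 0, 0, -1, 2, -1], [0, 0, 0, 0, -1, 2, -1, 0], [0, 0, 0, -1, 2, -1, 0, 0], [0, -1, -1, 2, -1, 0, 0, 0], [-1, 0, 2, -1, 0, 0, 0, 0], [0, 2, 0, -1, 0, 0, 0, 0], [2, 0, -1, 0, 0, 0, 0, 0], [0, 0, 0, 0, 0, 0, 1, -2], [0, 0, 0, 0, 0, 1, -2, 1], [0, 0, 0, 0, 1, -2, 1, 0], [0, 0, 0, 1, -2, 1, 0, 0], [0, 1, 1, -2, 1, 0, 0, 0], [1, 0, -2, 1, 0, 0, 0, 0], [0, -2, 0, 1, 0, 0, 0, 0], [-2, 0, 1, 0, 0, 0, 0, 0], [0, 0, 0, 0, 0, 1, -1, -1], [0, 0, 0, 0, 1, -1, -1, 1], [0, 0, 0, 1, -1, -1, 1, 0], [0, 1, 1, -1, -1, 1, 0, 0], [0, -1, 1, -1, 1, 0, 0, 0], [1, 1, -1, -1, 1, 0, 0, 0], [-1, 0, -1, 1, 0, 0, 0, 0], [0, 0, 0, 0, 1, -1, 0, -1],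 [0, 0, 0, 1, -1, 0, -1, 1], [0, 1, 1, -1, 0, -1, 1, 0], [0, -1, 1, 0, -1, 1, 0, 0], [1, 1, -1, 0, -1, 1, 0, 0], [1, -1, -1, 0, 1, 0, 0, 0], [-1, 1, 0, -1, 1, 0, 0, 0], [0, 0, 0, 1, -1, 0, 0, -1], [0, 1, 1, -1, 0, 0, -1, 1], [0, -1, 1, 0, 0, -1, 1, 0], [1, 1, -1, 0, 0, -1, 1, 0], [1, -1, -1, 1, -1, 1, 0, 0], [-1, 1, 0, 0, -1, 1, 0, 0], [-1, -1, 0, 0, 1, 0, 0, 0], [0, 1, 1, -1, 0, 0, 0, -1], [0, -1, 1, 0, 0, 0, -1, 1], [1, 1, -1, 0, 0, 0, -1, 1], [1, -1, -1, 1, 0, -1, 1, 0], [-1, 1, 0, 0, 0, -1, 1, 0], [-1, -1, 0, 1, -1, 1, 0, 0], [1, 0, 0, -1, 0, 1, 0, 0], [0, -1, 1, 0, 0, 0, 0, -1], [1, 1, -1, 0, 0, 0, 0, -1], [1, -1, -1, 1, 0, 0, -1, 1], [-1, 1, 0, 0, 0, 0, -1, 1], [-1, -1, 0, 1, 0, -1, 1, 0], [1, 0, 0, -1, 1, -1, 1, 0], [-1, 0, 1, -1, 0, 1, 0, 0], [1, -1, -1, 1, 0, 0, 0, -1], [-1, 1, 0, 0, 0, 0, 0, -1],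 [-1, -1, 0, 1, 0, 0, -1, 1], [1, 0, 0, -1, 1, 0, -1, 1], [-1, 0, 1, -1, 1, -1, 1, 0], [1, 0, 0, 0, -1, 0, 1, 0], [0, 0, -1, 0, 0, 1, 0, 0], [-1, -1, 0, 1, 0, 0, 0, -1], [1, 0, 0, -1, 1, 0, 0, -1], [-1, 0, 1, -1, 1, 0, -1, 1], [1, 0, 0, 0, -1, 1, -1, 1], [0, 0, -1, 0, 1, -1, 1, 0], [-1, 0, 1, 0, -1, 0, 1, 0], [-1, 0, 1, -1, 1, 0, 0, -1], [1, 0, 0, 0, -1, 1, 0, -1], [0, 0, -1, 0, 1, 0, -1, 1], [-1, 0, 1, 0, -1, 1, -1, 1], [1, 0, 0, 0, 0, -1, 0, 1], [0, 0, -1, 1, -1, 0, 1, 0], [0, 0, -1, 0, 1, 0, 0, -1], [-1, 0, 1, 0, -1, 1, 0, -1], [1, 0, 0, 0, 0, -1, 1, -1], [0, 0, -1, 1, -1, 1, -1, 1], [-1, 0, 1, 0, 0, -1, 0, 1], [0, 1, 0, -1, 0, 0, 1, 0], [0, 0, -1, 1, -1, 1, 0, -1], [-1, 0, 1, 0, 0, -1, 1, -1], [1, 0, 0, 0, 0, 0, -1, 0], [0, 1, 0, -1, 0, 1, -1, 1], [0, 0, -1, 1, 0, -1, 0, 1], [0, -1, 0, 0, 0, 0, 1, 0], [0,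 1, 0, -1, 0, 1, 0, -1], [0, 0, -1, 1, 0, -1, 1, -1], [-1, 0, 1, 0, 0, 0, -1, 0], [0, -1, 0, 0, 0, 1, -1, 1], [0, 1, 0, -1, 1, -1, 0, 1], [0, -1, 0, 0, 0, 1, 0, -1], [0, 1, 0, -1, 1, -1, 1, -1], [0, 0, -1, 1, 0, 0, -1, 0], [0, -1, 0, 0, 1, -1, 0, 1], [0, 1, 0, 0, -1, 0, 0, 1], [0, -1, 0, 0, 1, -1, 1, -1], [0, 1, 0, 0, -1, 0, 1, -1], [0, 1, 0, -1, 1, 0, -1, 0], [0, -1, 0, 1, -1, 0, 0, 1], [0, -1, 0, 1, -1, 0, 1, -1], [0, -1, 0, 0, 1, 0, -1, 0], [0, 1, 0, 0, -1, 1, -1, 0], [0, 0, 1, -1, 0, 0, 0, 1], [0, 0, 1, -1, 0, 0, 1, -1], [0, -1, 0, 1, -1, 1, -1, 0], [0, 1, 0, 0, 0, -1, 0, 0], [1, 0, -1, 0, 0, 0, 0, 1], [1, 0, -1, 0, 0, 0, 1, -1], [0, 0, 1, -1, 0, 1, -1, 0], [0, -1, 0, 1, 0, -1, 0, 0], [-1, 0, 0, 0, 0, 0, 0, 1], [-1, 0, 0, 0, 0, 0, 1, -1], [1, 0, -1, 0, 0, 1, -1, 0], [0, 0, 1, -1, 1, -1, 0, 0], [-1, 0, 0,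 0, 0, 1, -1, 0], [1, 0, -1, 0, 1, -1, 0, 0], [0, 0, 1, 0, -1, 0, 0, 0], [-1, 0, 0, 0, 1, -1, 0, 0], [1, 0, -1, 1, -1, 0, 0, 0], [-1, 0, 0, 1, -1, 0, 0, 0], [1, 1, 0, -1, 0, 0, 0, 0], [-1, 1, 1, -1, 0, 0, 0, 0], [1, -1, 0, 0, 0, 0, 0, 0], [-1, -1, 1, 0, 0, 0, 0, 0], [0, 1, -1, 0, 0, 0, 0, 0], [0, -1, -1, 1, 0, 0, 0, 0], [0, 0, 0, -1, 1, 0, 0, 0], [0, 0, 0, 0, -1, 1, 0, 0], [0, 0, 0, 0, 0, -1, 1, 0], [0, 0, 0, 0, 0, 0, -1, 1], [0, 0, 0, 0, 0, 0, 0, -1]]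
  parent := [(0, 7), (1, 6), (2, 5), (3, 4), (4, 3), (5, 1), (5, 2), (6, 2), (7, 0), (8, 0), (8, 3), (10, 3), (11, 4), (12, 2), (12, 4), (13, 5), (14, 4), (15, 5), (16, 6), (17, 3), (17, 5), (18, 6), (19, 7), (20, 1), (20, 5), (21, 6), (22, 7), (24, 5), (25, 4), (25, 6), (26, 7), (28, 4), (28, 6), (29, 6), (30, 7), (32, 3), (32, 6), (33, 7), (34, 5), (34, 7), (36, 2), (36, 6), (37, 5), (37, 7), (39, 7), (41, 0), (41, 6), (42, 5), (42, 7), (43, 7), (45, 6), (46, 6), (47, 5), (47, 7), (48, 4), (48, 7), (50, 6), (52, 5), (52, 7), (53, 4), (53, 7), (55, 7), (56, 6), (58, 4), (58, 7), (60, 3), (60, 7), (61, 6), (62, 6), (64, 3), (64, 7), (65, 6), (66, 1), (66, 7), (67, 6), (69, 5), (70, 1), (70, 2), (70, 7), (71, 6), (73, 7), (74, 6), (75, 5), (77, 2), (77, 7), (78, 7), (79, 6), (80, 5), (81, 6), (82, 5), (84,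 3), (84, 7), (85, 6), (86, 6), (87, 5), (89, 5), (90, 4), (91, 4), (91, 7), (92, 6), (93, 5), (94, 5), (95, 4), (96, 4), (98, 5), (98, 7), (99, 6), (100, 5), (101, 4), (102, 4), (104, 3), (105, 6), (105, 7), (106, 6), (107, 5), (108, 4), (109, 3), (110, 3), (111, 2), (112, 7), (113, 6), (114, 5), (115, 4), (116, 3), (117, 2), (118, 1), (119, 0), (120, 6), (121, 5), (122, 4), (123, 3), (124, 1), (124, 2), (125, 0), (128, 5), (129, 4), (130, 3), (131, 1), (131, 2), (132, 2), (133, 0), (135, 4), (136, 3), (137, 1), (137, 2), (138, 2), (139, 0), (140, 0), (142, 3), (143, 1), (143, 2), (144, 2), (145, 0), (146, 0), (146, 3), (149, 1), (149, 2), (150, 2), (151, 0), (152, 0), (152, 3), (154, 3), (156, 2), (157, 0), (158, 0), (158, 3), (160, 3), (161, 4), (162, 2), (163, 0), (163, 3), (165, 3), (166, 4), (167, 2),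 (167, 4), (170, 3), (171, 4), (172, 2), (172, 4), (173, 5), (174, 4), (176, 2), (176, 4), (177, 5), (178, 4), (179, 5), (181, 3), (182, 4), (183, 5), (184, 6), (185, 3), (185, 5), (187, 1), (188, 3), (188, 5), (189, 6), (191, 1), (191, 5), (194, 1), (194, 5), (195, 6), (197, 5), (198, 4), (199, 5), (200, 4), (200, 6), (202, 4), (204, 4), (204, 6), (205, 6), (207, 3), (208, 3), (208, 6), (210, 5), (211, 2), (212, 2), (212, 6), (213, 5), (215, 0), (216, 0), (216, 6), (217, 5), (220, 6), (221, 5), (222, 4), (223, 5), (224, 4), (226, 4), (227, 3), (228, 3), (229, 1), (230, 1), (230, 2), (232, 2), (234, 3), (235, 4), (236, 5), (237, 6), (238, 7)]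
  target := [[0, 0, 0, 0, 0, 0, 0, 1], [1, 1, 1, 1, 1, 1, 2, 0], [2, 2, 2, 2, 2, 3, 1, 2], [3, 3, 3, 3, 4, 2, 3, 3], [4, 4, 4, 5, 3, 4, 4, 4], [5, 6, 7, 4, 5, 5, 5, 5], [6, 5, 8, 6, 6, 6, 6, 6], [9, 8, 5, 7, 7, 7, 7, 7], [10, 7, 6, 11, 8, 8, 8, 8], [7, 10, 9, 9, 9, 9, 9, 9], [8, 9, 10, 12, 10, 10, 10, 10], [12, 11, 11, 8, 13, 11, 11, 11], [11, 12, 14, 10, 15, 12, 12, 12], [15, 13, 13, 13, 11, 16, 13, 13], [14, 14, 12, 14, 17, 14, 14, 14], [13, 15, 17, 15, 12, 18, 15, 15], [18, 16, 16, 16, 16, 13, 19, 16], [17, 17, 15, 20, 14, 21, 17, 17], [16, 18, 21, 18, 18, 15, 22, 18], [22, 19, 19, 19, 19, 19, 16, 23], [20, 24, 20, 17, 20, 25, 20, 20], [21, 21, 18, 25, 21, 17, 26, 21], [19, 22, 26, 22, 22, 22, 18, 27], [27, 23, 23, 23, 23, 23, 23, 19], [24, 20, 24, 24, 24, 28, 24, 24], [25, 28, 25, 21, 29, 20, 30, 25],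 [26, 26, 22, 30, 26, 26, 21, 31], [23, 27, 31, 27, 27, 27, 27, 22], [28, 25, 28, 28, 32, 24, 33, 28], [29, 32, 29, 29, 25, 29, 34, 29], [30, 33, 30, 26, 34, 30, 25, 35], [31, 31, 27, 35, 31, 31, 31, 26], [32, 29, 32, 36, 28, 32, 37, 32], [33, 30, 33, 33, 37, 33, 28, 38], [34, 37, 34, 34, 30, 39, 29, 40], [35, 38, 35, 31, 40, 35, 35, 30], [36, 36, 41, 32, 36, 36, 42, 36], [37, 34, 37, 42, 33, 43, 32, 44], [38, 35, 38, 38, 44, 38, 38, 33], [39, 43, 39, 39, 39, 34, 39, 45], [40, 44, 40, 40, 35, 45, 40, 34], [46, 41, 36, 41, 41, 41, 47, 41], [42, 42, 47, 37, 42, 48, 36, 49], [43, 39, 43, 48, 43, 37, 43, 50], [44, 40, 44, 49, 38, 50, 44, 37], [45, 50, 45, 45, 45, 40, 51, 39], [41, 46, 46, 46, 46, 46, 52, 46], [52, 47, 42, 47, 47, 53, 41, 54], [48, 48, 53, 43, 55, 42, 48, 56], [49, 49, 54, 44, 49, 56, 49, 42], [50,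 45, 50, 56, 50, 44, 57, 43], [51, 57, 51, 51, 51, 51, 45, 51], [47, 52, 52, 52, 52, 58, 46, 59], [58, 53, 48, 53, 60, 47, 53, 61], [59, 54, 49, 54, 54, 61, 54, 47], [55, 55, 60, 55, 48, 55, 55, 62], [56, 56, 61, 50, 62, 49, 63, 48], [57, 51, 57, 63, 57, 57, 50, 57], [53, 58, 58, 58, 64, 52, 58, 65], [54, 59, 59, 59, 59, 65, 59, 52], [64, 60, 55, 66, 53, 60, 60, 67], [65, 61, 56, 61, 67, 54, 68, 53], [62, 62, 67, 62, 56, 62, 69, 55], [63, 63, 68, 57, 69, 63, 56, 63], [60, 64, 64, 70, 58, 64, 64, 71], [61, 65, 65, 65, 71, 59, 72, 58], [70, 73, 66, 60, 66, 66, 66, 74], [71, 67, 62, 74, 61, 67, 75, 60], [72, 68, 63, 68, 75, 68, 61, 68], [69, 69, 75, 69, 63, 76, 62, 69], [66, 77, 78, 64, 70, 70, 70, 79], [67, 71, 71, 79, 65, 71, 80, 64], [68, 72, 72, 72, 80, 72, 65, 72], [77, 66, 73, 73, 73, 73, 73, 81], [79, 81,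 74, 67, 74, 74, 82, 66], [80, 75, 69, 82, 68, 83, 67, 75], [76, 76, 83, 76, 76, 69, 76, 76], [73, 70, 84, 77, 77, 77, 77, 85], [78, 84, 70, 78, 78, 78, 78, 86], [74, 85, 86, 71, 79, 79, 87, 70], [75, 80, 80, 87, 72, 88, 71, 80], [85, 74, 81, 81, 81, 81, 89, 73], [87, 89, 82, 75, 82, 90, 74, 82], [88, 83, 76, 90, 83, 75, 83, 83], [84, 78, 77, 91, 84, 84, 84, 92], [81, 79, 92, 85, 85, 85, 93, 77], [86, 92, 79, 86, 86, 86, 94, 78], [82, 93, 94, 80, 87, 95, 79, 87], [83, 88, 88, 95, 88, 80, 88, 88], [93, 82, 89, 89, 89, 96, 81, 89], [95, 96, 90, 83, 97, 82, 90, 90], [91, 91, 91, 84, 98, 91, 91, 99], [92, 86, 85, 99, 92, 92, 100, 84], [89, 87, 100, 93, 93, 101, 85, 93], [94, 100, 87, 94, 94, 102, 86, 94], [90, 101, 102, 88, 103, 87, 95, 95], [101, 90, 96, 96, 104, 89, 96, 96], [103, 104, 97, 97, 90, 97, 97, 97],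 [98, 98, 98, 98, 91, 105, 98, 106], [99, 99, 99, 92, 106, 99, 107, 91], [100, 94, 93, 107, 100, 108, 92, 100], [96, 95, 108, 101, 109, 93, 101, 101], [102, 108, 95, 102, 110, 94, 102, 102], [97, 109, 110, 103, 95, 103, 103, 103], [109, 97, 104, 111, 96, 104, 104, 104], [105, 105, 105, 105, 105, 98, 112, 113], [106, 106, 106, 106, 99, 113, 114, 98], [107, 107, 107, 100, 114, 115, 99, 107], [108, 102, 101, 115, 116, 100, 108, 108], [104, 103, 116, 117, 101, 109, 109, 109], [110, 116, 103, 118, 102, 110, 110, 110], [117, 111, 119, 104, 111, 111, 111, 111], [112, 112, 112, 112, 112, 112, 105, 120], [113, 113, 113, 113, 113, 106, 121, 105], [114, 114, 114, 114, 107, 122, 106, 114], [115, 115, 115, 108, 123, 107, 115, 115], [116, 110, 109, 124, 108, 116, 116, 116], [111, 117, 125, 109, 117, 117, 117, 117], [118,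 126, 118, 110, 118, 118, 118, 118], [127, 119, 111, 119, 119, 119, 119, 119], [120, 120, 120, 120, 120, 120, 128, 112], [121, 121, 121, 121, 121, 129, 113, 128], [122, 122, 122, 122, 130, 114, 129, 122], [123, 123, 123, 131, 115, 130, 123, 123], [124, 132, 133, 116, 131, 124, 124, 124], [134, 125, 117, 133, 125, 125, 125, 125], [126, 118, 126, 132, 126, 126, 126, 126], [119, 127, 134, 127, 127, 127, 127, 127], [128, 128, 128, 128, 128, 135, 120, 121], [129, 129, 129, 129, 136, 121, 122, 135], [130, 130, 130, 137, 122, 123, 136, 130], [131, 138, 139, 123, 124, 137, 131, 131], [132, 124, 140, 126, 138, 132, 132, 132], [141, 140, 124, 125, 139, 133, 133, 133], [125, 134, 127, 141, 134, 134, 134, 134], [135, 135, 135, 135, 142, 128, 135, 129], [136, 136, 136, 143, 129, 136, 130, 142], [137, 144, 145, 130, 137,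 131, 143, 137], [138, 131, 146, 138, 132, 144, 138, 138], [147, 146, 131, 139, 133, 145, 139, 139], [148, 133, 132, 140, 146, 140, 140, 140], [133, 148, 141, 134, 147, 141, 141, 141], [142, 142, 142, 149, 135, 142, 142, 136], [143, 150, 151, 136, 143, 143, 137, 149], [144, 137, 152, 144, 144, 138, 150, 144], [153, 152, 137, 145, 145, 139, 151, 145], [154, 139, 138, 155, 140, 152, 146, 146], [139, 154, 147, 147, 141, 153, 147, 147], [140, 141, 148, 148, 154, 148, 148, 148], [149, 156, 157, 142, 149, 149, 149, 143], [150, 143, 158, 150, 150, 150, 144, 156], [159, 158, 143, 151, 151, 151, 145, 157], [160, 145, 144, 161, 152, 146, 158, 152], [145, 160, 153, 153, 153, 147, 159, 153], [146, 147, 154, 162, 148, 160, 154, 154], [162, 155, 155, 146, 155, 161, 155, 155], [156, 149, 163, 156, 156, 156, 156, 150], [164,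 163, 149, 157, 157, 157, 157, 151], [165, 151, 150, 166, 158, 158, 152, 163], [151, 165, 159, 159, 159, 159, 153, 164], [152, 153, 160, 167, 160, 154, 165, 160], [167, 161, 161, 152, 168, 155, 166, 161], [155, 162, 169, 154, 162, 167, 162, 162], [170, 157, 156, 171, 163, 163, 163, 158], [157, 170, 164, 164, 164, 164, 164, 159], [158, 159, 165, 172, 165, 165, 160, 170], [172, 166, 166, 158, 173, 166, 161, 171], [161, 167, 174, 160, 175, 162, 172, 167], [175, 168, 168, 168, 161, 168, 173, 168], [169, 169, 162, 169, 169, 174, 169, 169], [163, 164, 170, 176, 170, 170, 170, 165], [176, 171, 171, 163, 177, 171, 171, 166], [166, 172, 178, 165, 179, 172, 167, 176], [179, 173, 173, 173, 166, 180, 168, 177], [174, 174, 167, 174, 181, 169, 178, 174], [168, 175, 181, 175, 167, 175, 179, 175], [171, 176, 182, 170, 183,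 176, 176, 172], [183, 177, 177, 177, 171, 184, 177, 173], [178, 178, 172, 178, 185, 178, 174, 182], [173, 179, 185, 179, 172, 186, 175, 183], [186, 180, 180, 180, 180, 173, 180, 184], [181, 181, 175, 187, 174, 181, 185, 181], [182, 182, 176, 182, 188, 182, 182, 178], [177, 183, 188, 183, 176, 189, 183, 179], [189, 184, 184, 184, 184, 177, 190, 180], [185, 185, 179, 191, 178, 192, 181, 188], [180, 186, 192, 186, 186, 179, 186, 189], [187, 193, 187, 181, 187, 187, 191, 187], [188, 188, 183, 194, 182, 195, 188, 185], [184, 189, 195, 189, 189, 183, 196, 186], [196, 190, 190, 190, 190, 190, 184, 190], [191, 197, 191, 185, 191, 198, 187, 194], [192, 192, 186, 198, 192, 185, 192, 195], [193, 187, 193, 193, 193, 193, 197, 193], [194, 199, 194, 188, 194, 200, 194, 191], [195, 195, 189, 200, 195, 188, 201, 192], [190,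 196, 201, 196, 196, 196, 189, 196], [197, 191, 197, 197, 197, 202, 193, 199], [198, 202, 198, 192, 203, 191, 198, 200], [199, 194, 199, 199, 199, 204, 199, 197], [200, 204, 200, 195, 205, 194, 206, 198], [201, 201, 196, 206, 201, 201, 195, 201], [202, 198, 202, 202, 207, 197, 202, 204], [203, 207, 203, 203, 198, 203, 203, 205], [204, 200, 204, 204, 208, 199, 209, 202], [205, 208, 205, 205, 200, 205, 210, 203], [206, 209, 206, 201, 210, 206, 200, 206], [207, 203, 207, 211, 202, 207, 207, 208], [208, 205, 208, 212, 204, 208, 213, 207], [209, 206, 209, 209, 213, 209, 204, 209], [210, 213, 210, 210, 206, 214, 205, 210], [211, 211, 215, 207, 211, 211, 211, 212], [212, 212, 216, 208, 212, 212, 217, 211], [213, 210, 213, 217, 209, 218, 208, 213], [214, 218, 214, 214, 214, 210, 214, 214], [219, 215, 211, 215, 215,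 215, 215, 216], [220, 216, 212, 216, 216, 216, 221, 215], [217, 217, 221, 213, 217, 222, 212, 217], [218, 214, 218, 222, 218, 213, 218, 218], [215, 219, 219, 219, 219, 219, 219, 220], [216, 220, 220, 220, 220, 220, 223, 219], [223, 221, 217, 221, 221, 224, 216, 221], [222, 222, 224, 218, 225, 217, 222, 222], [221, 223, 223, 223, 223, 226, 220, 223], [226, 224, 222, 224, 227, 221, 224, 224], [225, 225, 227, 225, 222, 225, 225, 225], [224, 226, 226, 226, 228, 223, 226, 226], [228, 227, 225, 229, 224, 227, 227, 227], [227, 228, 228, 230, 226, 228, 228, 228], [230, 231, 229, 227, 229, 229, 229, 229], [229, 232, 233, 228, 230, 230, 230, 230], [232, 229, 231, 231, 231, 231, 231, 231], [231, 230, 234, 232, 232, 232, 232, 232], [233, 234, 230, 233, 233, 233, 233, 233], [234, 233, 232, 235, 234, 234, 234, 234], [235,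 235, 235, 234, 236, 235, 235, 235], [236, 236, 236, 236, 235, 237, 236, 236], [237, 237, 237, 237, 237, 236, 238, 237], [238, 238, 238, 238, 238, 238, 237, 239], [239, 239, 239, 239, 239, 239, 239, 238]]

/-- Orbit 1. -/
def orbit1 : OrbitCert where
  node := 6
  orbit := [[0, 0, 0, 0, 0, 0, 1, 0], [0, 0, 0, 0, 0, 1, -1, 1], [0, 0, 0, 0, 1, -1, 0, 1], [0, 0, 0, 1, -1, 0, 0, 1], [0, 1, 1, -1, 0, 0, 0, 1], [0, -1, 1, 0, 0, 0, 0, 1], [1, 1, -1, 0, 0, 0, 0, 1], [1, -1, -1, 1, 0, 0, 0, 1], [-1, 1, 0, 0, 0, 0, 0, 1], [-1, -1, 0, 1, 0, 0, 0, 1], [1, 0, 0, -1, 1, 0, 0, 1], [-1, 0, 1, -1, 1, 0, 0, 1], [1, 0, 0, 0, -1, 1, 0, 1], [0, 0, -1, 0, 1, 0, 0, 1], [-1, 0, 1, 0, -1, 1, 0, 1], [1, 0, 0, 0, 0, -1, 1, 1], [0, 0, -1, 1, -1, 1, 0, 1], [-1, 0, 1, 0, 0, -1, 1, 1], [1, 0, 0, 0, 0, 0, -1, 2], [0, 1, 0, -1, 0, 1, 0, 1],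 [0, 0, -1, 1, 0, -1, 1, 1], [-1, 0, 1, 0, 0, 0, -1, 2], [0, -1, 0, 0, 0, 1, 0, 1], [0, 1, 0, -1, 1, -1, 1, 1], [0, 0, -1, 1, 0, 0, -1, 2], [0, -1, 0, 0, 1, -1, 1, 1], [0, 1, 0, 0, -1, 0, 1, 1], [0, 1, 0, -1, 1, 0, -1, 2], [0, -1, 0, 1, -1, 0, 1, 1], [0, -1, 0, 0, 1, 0, -1, 2], [0, 1, 0, 0, -1, 1, -1, 2], [0, 0, 1, -1, 0, 0, 1, 1], [0, -1, 0, 1, -1, 1, -1, 2], [0, 1, 0, 0, 0, -1, 0, 2], [1, 0, -1, 0, 0, 0, 1, 1], [0, 0, 1, -1, 0, 1, -1, 2], [0, -1, 0, 1, 0, -1, 0, 2], [-1, 0, 0, 0, 0, 0, 1, 1], [1, 0, -1, 0, 0, 1, -1, 2], [0, 0, 1, -1, 1, -1, 0, 2], [-1, 0, 0, 0, 0, 1, -1, 2], [1, 0, -1, 0, 1, -1, 0, 2], [0, 0, 1, 0, -1, 0, 0, 2], [-1, 0, 0, 0, 1, -1, 0, 2], [1, 0, -1, 1, -1, 0, 0, 2], [-1, 0, 0, 1, -1, 0, 0, 2], [1, 1, 0, -1, 0, 0, 0, 2], [-1, 1, 1, -1, 0, 0, 0, 2], [1, -1, 0, 0, 0, 0, 0, 2], [-1, -1, 1, 0,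 0, 0, 0, 2], [0, 1, -1, 0, 0, 0, 0, 2], [0, -1, -1, 1, 0, 0, 0, 2], [0, 0, 0, -1, 1, 0, 0, 2], [0, 0, 0, 0, -1, 1, 0, 2], [0, 0, 0, 0, 0, -1, 1, 2], [0, 0, 0, 0, 0, 0, -1, 3]]
  parent := [(0, 6), (1, 5), (2, 4), (3, 3), (4, 1), (4, 2), (5, 2), (6, 0), (7, 0), (7, 3), (9, 3), (10, 4), (11, 2), (11, 4), (12, 5), (13, 4), (14, 5), (15, 6), (16, 3), (16, 5), (17, 6), (19, 1), (19, 5), (20, 6), (22, 5), (23, 4), (23, 6), (25, 4), (25, 6), (26, 6), (28, 3), (28, 6), (30, 5), (31, 2), (31, 6), (32, 5), (34, 0), (34, 6), (35, 5), (37, 6), (38, 5), (39, 4), (40, 5), (41, 4), (43, 4), (44, 3), (45, 3), (46, 1), (47, 1), (47, 2), (49, 2), (51, 3), (52, 4), (53, 5), (54, 6)]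
  target := [[0, 0, 0, 0, 0, 0, 1], [1, 1, 1, 1, 1, 2, 0], [2, 2, 2, 2, 3, 1, 2], [3, 3, 3, 4, 2, 3, 3], [4, 5, 6, 3, 4, 4, 4], [5, 4, 7, 5, 5, 5, 5], [8, 7, 4, 6, 6, 6, 6], [9, 6, 5, 10, 7, 7, 7], [6, 9, 8, 8, 8, 8, 8], [7, 8, 9, 11, 9, 9, 9], [11, 10, 10, 7, 12, 10, 10], [10, 11, 13, 9, 14, 11, 11], [14, 12, 12, 12, 10, 15, 12], [13, 13, 11, 13, 16, 13, 13], [12, 14, 16, 14, 11, 17, 14], [17, 15, 15, 15, 15, 12, 18], [16, 16, 14, 19, 13, 20, 16], [15, 17, 20, 17, 17, 14, 21], [21, 18, 18, 18, 18, 18, 15], [19, 22, 19, 16, 19, 23, 19], [20, 20, 17, 23, 20, 16, 24], [18, 21, 24, 21, 21, 21, 17], [22, 19, 22, 22, 22, 25, 22], [23, 25, 23, 20, 26, 19, 27], [24, 24, 21, 27, 24, 24, 20], [25, 23, 25, 25, 28, 22, 29], [26, 28, 26, 26, 23, 26, 30], [27, 29, 27, 24, 30, 27, 23], [28, 26, 28, 31, 25, 28, 32], [29,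 27, 29, 29, 32, 29, 25], [30, 32, 30, 30, 27, 33, 26], [31, 31, 34, 28, 31, 31, 35], [32, 30, 32, 35, 29, 36, 28], [33, 36, 33, 33, 33, 30, 33], [37, 34, 31, 34, 34, 34, 38], [35, 35, 38, 32, 35, 39, 31], [36, 33, 36, 39, 36, 32, 36], [34, 37, 37, 37, 37, 37, 40], [40, 38, 35, 38, 38, 41, 34], [39, 39, 41, 36, 42, 35, 39], [38, 40, 40, 40, 40, 43, 37], [43, 41, 39, 41, 44, 38, 41], [42, 42, 44, 42, 39, 42, 42], [41, 43, 43, 43, 45, 40, 43], [45, 44, 42, 46, 41, 44, 44], [44, 45, 45, 47, 43, 45, 45], [47, 48, 46, 44, 46, 46, 46], [46, 49, 50, 45, 47, 47, 47], [49, 46, 48, 48, 48, 48, 48], [48, 47, 51, 49, 49, 49, 49], [50, 51, 47, 50, 50, 50, 50], [51, 50, 49, 52, 51, 51, 51], [52, 52, 52, 51, 53, 52, 52], [53, 53, 53, 53, 52, 54, 53], [54, 54, 54, 54, 54, 53, 55], [55, 55, 55, 55, 55, 55, 54]]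

/-- Orbit 2. -/
def orbit2 : OrbitCert where
  node := 0
  orbit := [[1, 0, 0, 0, 0, 0, 0, 0], [-1, 0, 1, 0, 0, 0, 0, 0], [0, 0, -1, 1, 0, 0, 0, 0], [0, 1, 0, -1, 1, 0, 0, 0], [0, -1, 0, 0, 1, 0, 0, 0], [0, 1, 0, 0, -1, 1, 0, 0], [0, -1, 0, 1, -1, 1, 0, 0], [0, 1, 0, 0, 0, -1, 1, 0], [0, 0, 1, -1, 0, 1, 0, 0], [0, -1, 0, 1, 0, -1, 1, 0], [1, 0, -1, 0, 0, 1, 0, 0], [0, 0, 1, -1, 1, -1, 1, 0], [-1, 0, 0, 0, 0, 1, 0, 0], [1, 0, -1, 0, 1, -1, 1, 0], [0, 0, 1, 0, -1, 0, 1, 0], [-1, 0, 0, 0, 1, -1, 1, 0], [1, 0, -1, 1, -1, 0, 1, 0], [-1, 0, 0, 1, -1, 0, 1, 0], [1, 1, 0, -1, 0, 0, 1, 0], [-1, 1, 1, -1, 0, 0, 1, 0], [1, -1, 0, 0, 0, 0, 1, 0], [-1, -1, 1, 0, 0, 0, 1, 0], [0, 1, -1, 0, 0, 0, 1, 0], [0, -1, -1, 1, 0, 0, 1, 0], [0, 0, 0, -1, 1, 0, 1, 0], [0, 0, 0, 0, -1, 1, 1, 0], [0, 0, 0, 0, 0, -1, 2, 0]]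
  parent := [(0, 0), (1, 2), (2, 3), (3, 1), (3, 4), (4, 4), (5, 5), (6, 3), (6, 5), (8, 2), (8, 5), (10, 0), (10, 5), (11, 4), (12, 5), (13, 4), (15, 4), (16, 3), (17, 3), (18, 1), (19, 1), (19, 2), (21, 2), (23, 3), (24, 4), (25, 5)]
  target := [[1, 0, 0, 0, 0, 0], [0, 1, 2, 1, 1, 1], [2, 2, 1, 3, 2, 2], [3, 4, 3, 2, 5, 3], [4, 3, 4, 4, 6, 4], [5, 6, 5, 5, 3, 7], [6, 5, 6, 8, 4, 9], [7, 9, 7, 7, 7, 5], [8, 8, 10, 6, 8, 11], [9, 7, 9, 11, 9, 6], [12, 10, 8, 10, 10, 13], [11, 11, 13, 9, 14, 8], [10, 12, 12, 12, 12, 15], [15, 13, 11, 13, 16, 10], [14, 14, 16, 14, 11, 14], [13, 15, 15, 15, 17, 12], [17, 16, 14, 18, 13, 16], [16, 17, 17, 19, 15, 17], [19, 20, 18, 16, 18, 18], [18, 21, 22, 17, 19, 19], [21, 18, 20, 20, 20, 20], [20, 19, 23, 21, 21, 21], [22, 23, 19, 22, 22, 22], [23, 22, 21, 24, 23, 23], [24,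 24, 24, 23, 25, 24], [25, 25, 25, 25, 24, 26], [26, 26, 26, 26, 26, 25]]

/-- Orbit 3. -/
def orbit3 : OrbitCert where
  node := 5
  orbit := [[0, 0, 0, 0, 0, 1, 0, 0], [0, 0, 0, 0, 1, -1, 1, 0], [0, 0, 0, 1, -1, 0, 1, 0], [0, 1, 1, -1, 0, 0, 1, 0], [0, -1, 1, 0, 0, 0, 1, 0], [1, 1, -1, 0, 0, 0, 1, 0], [1, -1, -1, 1, 0, 0, 1, 0], [1, 0, 0, -1, 1, 0, 1, 0], [1, 0, 0, 0, -1, 1, 1, 0], [1, 0, 0, 0, 0, -1, 2, 0]]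
  parent := [(0, 5), (1, 4), (2, 3), (3, 1), (3, 2), (4, 2), (6, 3), (7, 4), (8, 5)]
  target := [[0, 0, 0, 0, 1], [1, 1, 1, 2, 0], [2, 2, 3, 1, 2], [4, 5, 2, 3, 3], [3, 6, 4, 4, 4], [6, 3, 5, 5, 5], [5, 4, 7, 6, 6], [7, 7, 6, 8, 7], [8, 8, 8, 7, 9], [9, 9, 9, 9, 8]]

/-- Orbit 4. -/
def orbit4 : OrbitCert where
  node := 1
  orbit := [[0, 1, 0, 0, 0, 0, 0, 0], [0, -1, 0, 1, 0, 0, 0, 0], [0, 0, 1, -1, 1, 0, 0, 0], [1, 0, -1, 0, 1, 0, 0, 0], [0, 0, 1, 0, -1, 1, 0, 0], [1, 0, -1, 1, -1, 1, 0, 0], [1, 1, 0, -1, 0, 1, 0, 0], [1, -1, 0, 0, 0, 1, 0, 0]]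
  parent := [(0, 1), (1, 3), (2, 2), (2, 4), (3, 4), (5, 3), (6, 1)]
  target := [[1, 0, 0, 0], [0, 1, 2, 1], [2, 3, 1, 4], [3, 2, 3, 5], [4, 5, 4, 2], [5, 4, 6, 3], [7, 6, 5, 6], [6, 7, 7, 7]]

/-- Orbit 5. -/
def orbit5 : OrbitCert where
  node := 2
  orbit := [[0, 0, 1, 0, 0, 0, 0, 0], [1, 0, -1, 1, 0, 0, 0, 0], [1, 1, 0, -1, 1, 0, 0, 0], [1, 1, 0, 0, -1, 1, 0, 0]]
  parent := [(0, 2), (1, 3), (2, 4)]
  target := [[1, 0, 0], [0, 2, 1], [2, 1, 3], [3, 3, 2]]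

/-- Orbit 6. -/
def orbit6 : OrbitCert where
  node := 3
  orbit := [[0, 0, 0, 1, 0, 0, 0, 0], [0, 1, 1, -1, 1, 0, 0, 0], [0, 1, 1, 0, -1, 1, 0, 0]]
  parent := [(0, 3), (1, 4)]
  target := [[1, 0], [0, 2], [2, 1]]

/-- Orbit 7. -/
def orbit7 : OrbitCert where
  node := 4
  orbit := [[0, 0, 0, 0, 1, 0, 0, 0], [0, 0, 0, 1, -1, 1, 0, 0]]
  parent := [(0, 4)]
  target := [[1], [0]]

/-- The chain of parabolic orbits. -/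
def orbits : List OrbitCert := [orbit0, orbit1, orbit2, orbit3, orbit4, orbit5, orbit6, orbit7]

/-- The degrees. -/
def degs : List ℕ := [2, 8, 12, 14, 18, 20, 24, 30]

theorem chain_ok : chkChain Cfsg.Lie.chevE8 cert (List.range Cfsg.Lie.chevE8.rank) orbits = true := by decide +kernel

theorem poly_ok : chkPoly Cfsg.Lie.chevE8 cert orbits degs = true := by decide +kernel

theorem smith_ok : SmithOK Cfsg.Lie.chevE8 cert [1, 1, 1, 1, 1, 1, 1, 1] :=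
  ⟨[[-1, 0, 0, 0, 0, 0, 0, 0], [0, -1, 0, 0, 0, 0, 0, 0], [1, -2, 0, -1, 0, 0, 0, 0], [2, -3, 0, -2, -1, 0, 0, 0], [3, -4, 0, -3, -2, -1, 0, 0], [4, -5, 0, -4, -3, -2, -1, 0], [-2, 1, -1, 0, 0, 0, 0, 0], [-3, -2, -4, -5, -4, -3, -2, -1]], [[-1, 0, 0, 0, 0, 0, 0, 0], [0, -1, 0, 0, 0, 0, 0, 0], [2, -1, 0, 0, 0, 0, -1, 0], [-1, 2, -1, 0, 0, 0, 0, 0], [0, -1, 2, -1, 0, 0, 0, 0], [0, 0, -1, 2, -1, 0, 0, 0], [0, 0, 0, -1, 2, -1, 0, 0], [0, 0, 0, 0, -1, 2, 4, -1]], [[0, 0, 0, 0, 0, 0, 1, -2], [0, 0, 0, 0, 0, 0, 2, -3], [1, 0, 0, 0, 0, 0, 2, -4], [0, 1, 0, 0, 0, 0, 4, -6], [0, 0, 1, 0, 0, 0, 4, -5], [0, 0, 0, 1, 0, 0, 4, -4], [0, 0, 0, 0, 1, 0, 4, -3], [0, 0, 0, 0, 0, 1, 4, -2]], [[-2, 0, 1, 0, 0, 0, 0, 0], [0, -2, 0, 1, 0, 0, 0, 0], [2, -3, 0, 0, 1, 0, 0, 0], [4, -4, 0, 0, 0, 1, 0, 0], [6, -5, 0, 0, 0, 0, 1, 0],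 [8, -6, 0, 0, 0, 0, 0, 1], [-3, 2, 0, 0, 0, 0, 0, 0], [-2, 1, 0, 0, 0, 0, 0, 0]], by decide +kernel⟩

end Cfsg.Agent.Lib.Chev.E8
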