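import Cfsg.Agent.Lib.Chev.Orders
import Cfsg.Agent.Lib.Chev.All

/-! Orbit and Smith-form certificates for the type F4 (written out by a script from the Cartan matrix). -/

set_option autoImplicit false

namespace Cfsg.Agent.Lib.Chev.F4

/-- Orbit 0. -/
def orbit0 : OrbitCert where
  node := 0
  orbit := [[1, 0, 0, 0], [-1, 1, 0, 0], [0, -1, 2, 0], [0, 1, -2, 2], [1, -1, 0, 2], [0, 1, 0, -2], [-1, 0, 0, 2], [1, -1, 2, -2], [-1, 0, 2, -2], [1, 1, -2, 0], [-1, 2, -2, 0], [2, -1, 0, 0], [1, -2, 2, 0], [-2, 1, 0, 0], [-1, -1, 2, 0], [1, 0, -2, 2], [-1, 1, -2, 2], [1, 0, 0, -2], [0, -1, 0, 2], [-1, 1, 0, -2], [0, -1, 2, -2], [0, 1, -2, 0], [1, -1, 0, 0], [-1, 0, 0, 0]]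
  parent := [(0, 0), (1, 1), (2, 2), (3, 1), (3, 3), (4, 0), (4, 3), (6, 3), (7, 2), (8, 2), (9, 1), (10, 1), (11, 0), (12, 0), (12, 2), (14, 2), (15, 3), (16, 1), (16, 3), (18, 3), (20, 2), (21, 1), (22, 0)]
  target := [[1, 0, 0, 0], [0, 2, 1, 1], [2, 1, 3, 2], [3, 4, 2, 5], [6, 3, 4, 7], [5, 7, 5, 3], [4, 6, 6, 8], [8, 5, 9, 4], [7, 8, 10, 6], [10, 11, 7, 9], [9, 12, 8, 10], [13, 9, 11, 11], [14, 10, 15, 12], [11, 14, 13, 13], [12, 13, 16, 14], [16, 15, 12, 17], [15, 18, 14, 19], [19, 17, 17, 15], [18, 16, 18, 20], [17, 20, 19, 16], [20, 19, 21, 18], [21, 22, 20, 21], [23, 21, 22, 22], [22, 23, 23, 23]]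

/-- Orbit 1. -/
def orbit1 : OrbitCert where
  node := 3
  orbit := [[0, 0, 0, 1], [0, 0, 1, -1], [0, 1, -1, 0], [1, -1, 1, 0], [1, 0, -1, 1], [1, 0, 0, -1]]
  parent := [(0, 3), (1, 2), (2, 1), (3, 2), (4, 3)]
  target := [[0, 0, 1], [1, 2, 0], [3, 1, 2], [2, 4, 3], [4, 3, 5], [5, 5, 4]]

/-- Orbit 2. -/
def orbit2 : OrbitCert where
  node := 1
  orbit := [[0, 1, 0, 0], [1, -1, 2, 0], [1, 1, -2, 2], [2, -1, 0, 2]]
  parent := [(0, 1), (1, 2), (2, 1)]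
  target := [[1, 0], [0, 2], [3, 1], [2, 3]]

/-- Orbit 3. -/
def orbit3 : OrbitCert where
  node := 2
  orbit := [[0, 0, 1, 0], [0, 1, -1, 1]]
  parent := [(0, 2)]
  target := [[1], [0]]

/-- The chain of parabolic orbits. -/
def orbits : List OrbitCert := [orbit0, orbit1, orbit2, orbit3]

/-- The degrees. -/
def degs : List ℕ := [2, 6, 8, 12]

theorem chain_ok : chkChain Cfsg.Lie.chevF4 cert (List.range Cfsg.Lie.chevF4.rank) orbits = true := by decide +kernel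

theorem poly_ok : chkPoly Cfsg.Lie.chevF4 cert orbits degs = true := by decide +kernel

theorem smith_ok : SmithOK Cfsg.Lie.chevF4 cert [1, 1, 1, 1] :=
  ⟨[[-1, 0, 0, 0], [1, 0, -1, 0], [-2, -1, 0, 0], [-2, -2, -2, -1]], [[-1, 0, 0, 0], [2, 0, -1, 0], [-1, -1, 0, 0], [0, 2, 2, -1]], [[0, 0, 1, -2], [1, 0, 2, -4], [0, 0, 2, -3], [0, 1, 2, -2]], [[-2, 1, 0, 0], [2, 0, -2, 1], [-3, 0, 2, 0], [-2, 0, 1, 0]], by decide +kernel⟩

end Cfsg.Agent.Lib.Chev.F4
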