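import Cfsg.Agent.Lib.Chev.Bruhat
import Cfsg.Agent.Lib.Chev.Simple
import Cfsg.Agent.Lib.Twisted.Monomial

/-!
The homomorphism of `SL₂` onto the subgroup of a pair of opposite roots.
-/

set_option autoImplicit false

namespace Cfsg.Agent.Lib.Chev

open Cfsg.Lie
open scoped Matrix MatrixGroups

/-- The data of a rank one subgroup: root elements `x, y`, the Weyl element and torus. -/
structure RankOneData (F G : Type*) [Field F] [Group G] where
  x : F → G
  y : F → G
  n : F → G
  h : F → G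
  x_add : ∀ s t, x s * x t = x (s + t)
  n_def : ∀ t, t ≠ 0 → n t = x t * y (-t⁻¹) * x t
  h_def : ∀ t, h t = n t * n (-1)
  n_neg : n (-1) * n 1 = 1
  h_mul : ∀ a b, a ≠ 0 → b ≠ 0 → h a * h b = h (a * b)
  h_x : ∀ a t, a ≠ 0 → h a * x t = x (a ^ 2 * t) * h a
  n_y : ∀ u, n 1 * y u = x (-u) * n 1

namespace RankOneData

variable {F G : Type*} [Field F] [Group G] (R : RankOneData F G)

theorem x_zero : R.x 0 = 1 := by
  have := R.x_add 0 0
  rw [add_zero] at this
  exact mul_eq_left.1 this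

theorem h_one : R.h 1 = 1 := by
  have := R.h_mul 1 1 one_ne_zero one_ne_zero
  rw [mul_one] at this
  exact mul_eq_left.1 this

theorem n_eq (t : F) : R.n t = R.h t * R.n 1 := by
  rw [R.h_def, mul_assoc, R.n_neg, mul_one]

theorem h_mul_n {u v : F} (hu : u ≠ 0) (hv : v ≠ 0) : R.h u * R.n v = R.n (u * v) := by
  rw [R.n_eq v, ← mul_assoc, R.h_mul u v hu hv, ← R.n_eq]

theorem n_one_sq : R.n 1 * R.n 1 = R.h (-1) := by
  have h1 : R.h (-1) * R.h (-1) = 1 := by
    rw [R.h_mul _ _ (neg_ne_zero.2 one_ne_zero) (neg_ne_zero.2 one_ne_zero)]; simp [R.h_one]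
  have h2 : R.h (-1) * (R.n 1 * R.n 1) = 1 := by
    rw [R.h_def, mul_assoc, ← mul_assoc (R.n (-1)) (R.n 1), R.n_neg, one_mul, R.n_neg]
  exact mul_left_cancel (h2.trans h1.symm)

open Classical in
/-- The image of a matrix. -/
noncomputable def img (g : SL(2, F)) : G :=
  if g 1 0 = 0 then R.h (g 0 0) * R.x (g 0 1 / g 0 0)
  else R.x (g 0 0 / g 1 0) * R.n (-(g 1 0)⁻¹) * R.x (g 1 1 / g 1 0)

/-- The upper unipotent matrix. -/
def upper (t : F) : SL(2, F) := ⟨!![1, t; 0, 1], by simp [Matrix.det_fin_two]⟩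

/-- The lower unipotent matrix. -/
def lower (t : F) : SL(2, F) := ⟨!![1, 0; t, 1], by simp [Matrix.det_fin_two]⟩

/-- The Weyl element. -/
def wElt : SL(2, F) := ⟨!![0, 1; -1, 0], by simp [Matrix.det_fin_two]⟩

/-- The Weyl element, with the field explicit. -/
local notation "w₀" => (wElt : SL(2, F))

theorem mul_entry (g k : SL(2, F)) (i j : Fin 2) : (g * k) i j = g i 0 * k 0 j + g i 1 * k 1 j := by
  show ((g : Matrix (Fin 2) (Fin 2) F) * (k : Matrix (Fin 2) (Fin 2) F)) i j = _
  rw [Matrix.mul_apply, Fin.sum_univ_two]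

theorem upper_entries (t : F) :
    upper t 0 0 = 1 ∧ upper t 0 1 = t ∧ upper t 1 0 = 0 ∧ upper t 1 1 = 1 := ⟨rfl, rfl, rfl, rfl⟩

theorem lower_entries (t : F) :
    lower t 0 0 = 1 ∧ lower t 0 1 = 0 ∧ lower t 1 0 = t ∧ lower t 1 1 = 1 := ⟨rfl, rfl, rfl, rfl⟩

theorem wElt_entries :
    w₀ 0 0 = 0 ∧ w₀ 0 1 = 1 ∧ w₀ 1 0 = -1 ∧ w₀ 1 1 = 0 := ⟨rfl, rfl, rfl, rfl⟩

theorem sl_ext {g k : SL(2, F)} (h00 : g 0 0 = k 0 0) (h01 : g 0 1 = k 0 1) (h10 : g 1 0 = k 1 0)
    (h11 : g 1 1 = k 1 1) : g = k := by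
  refine Matrix.SpecialLinearGroup.ext g k fun i j => ?_
  fin_cases i <;> fin_cases j <;> assumption

theorem det_eq (g : SL(2, F)) : g 0 0 * g 1 1 - g 0 1 * g 1 0 = 1 := by
  rw [← Matrix.det_fin_two]; exact g.2

theorem img_upper (t : F) : R.img (upper t) = R.x t := by
  simp [img, upper, R.h_one]

theorem img_mul_upper (g : SL(2, F)) (t : F) : R.img (g * upper t) = R.img g * R.x t := by
  have e00 : (g * upper t) 0 0 = g 0 0 := by rw [mul_entry]; simp [upper_entries]
  have e01 : (g * upper t) 0 1 = g 0 0 * t + g 0 1 := by rw [mul_entry]; simp [upper_entries]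
  have e10 : (g * upper t) 1 0 = g 1 0 := by rw [mul_entry]; simp [upper_entries]
  have e11 : (g * upper t) 1 1 = g 1 0 * t + g 1 1 := by rw [mul_entry]; simp [upper_entries]
  unfold img
  rw [e00, e01, e10, e11]
  have hd := det_eq g
  split_ifs with hc
  · have ha : g 0 0 ≠ 0 := fun e => by rw [e, hc] at hd; simp at hd
    rw [mul_assoc, R.x_add]
    congr 2
    field_simp
    ring
  · rw [mul_assoc _ (R.x (g 1 1 / g 1 0)) (R.x t), R.x_add]
    congr 2
    field_simp
    ring

theorem img_mul_w (g : SL(2, F)) : R.img (g * w₀) = R.img g * R.n 1 := by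
  have e00 : (g * w₀) 0 0 = - g 0 1 := by rw [mul_entry]; simp [wElt_entries]
  have e01 : (g * w₀) 0 1 = g 0 0 := by rw [mul_entry]; simp [wElt_entries]
  have e10 : (g * w₀) 1 0 = - g 1 1 := by rw [mul_entry]; simp [wElt_entries]
  have e11 : (g * w₀) 1 1 = g 1 0 := by rw [mul_entry]; simp [wElt_entries]
  unfold img
  rw [e00, e01, e10, e11]
  set a := g 0 0
  set b := g 0 1
  set c := g 1 0
  set d := g 1 1
  have hd : a * d - b * c = 1 := det_eq g
  by_cases hc : c = 0
  · have had : a * d = 1 := by rw [hc] at hd; simpa using hd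
    have ha : a ≠ 0 := left_ne_zero_of_mul_eq_one had
    have hd0 : d ≠ 0 := right_ne_zero_of_mul_eq_one had
    rw [if_neg (neg_ne_zero.2 hd0), if_pos hc, hc, zero_div, R.x_zero, mul_one, R.h_x _ _ ha, mul_assoc, R.h_mul_n ha one_ne_zero,
      mul_one]
    have e1 : -b / -d = a ^ 2 * (b / a) := by field_simp; linear_combination -b * had
    have e2 : -(-d)⁻¹ = a := by field_simp; linear_combination -had
    rw [e1, e2]
  by_cases hd0 : d = 0
  · have hbc : b * c = -1 := by rw [hd0] at hd; linear_combination -hd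
    have hb : b ≠ 0 := fun e => by rw [e] at hbc; simp at hbc
    have eb : -b = c⁻¹ := by field_simp; linear_combination -hbc
    rw [if_pos (neg_eq_zero.2 hd0), if_neg hc, hd0, zero_div, R.x_zero, mul_one, eb, R.h_x _ _ (inv_ne_zero hc),
      mul_assoc, R.n_eq (-c⁻¹), mul_assoc, R.n_one_sq, R.h_mul _ _ (neg_ne_zero.2 (inv_ne_zero hc))
      (neg_ne_zero.2 one_ne_zero)]
    congr 2
    · field_simp
    · ring
  rw [if_neg (neg_ne_zero.2 hd0), if_neg hc]
  set s := d / c with hs
  have hs0 : s ≠ 0 := div_ne_zero hd0 hc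
  have h1 : R.x s * R.n 1 = R.n 1 * R.y (-s) := by rw [R.n_y, neg_neg]
  have h2 : R.y (-s) = (R.x s⁻¹)⁻¹ * R.n s⁻¹ * (R.x s⁻¹)⁻¹ := by
    rw [R.n_def _ (inv_ne_zero hs0), inv_inv]; group
  have h3 : ∀ t, (R.x t)⁻¹ = R.x (-t) := fun t => inv_eq_of_mul_eq_one_right (by rw [R.x_add, add_neg_cancel, R.x_zero])
  have hci : c⁻¹ ≠ 0 := inv_ne_zero hc
  have h4 : R.n (-c⁻¹) * R.n 1 = R.h c⁻¹ := by
    rw [R.n_eq, mul_assoc, R.n_one_sq, R.h_mul _ _ (neg_ne_zero.2 hci) (neg_ne_zero.2 one_ne_zero)]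
    congr 1; ring
  symm
  calc R.x (a / c) * R.n (-c⁻¹) * R.x s * R.n 1
      = R.x (a / c) * (R.n (-c⁻¹) * R.n 1) * (R.x (-s⁻¹) * R.n s⁻¹ * R.x (-s⁻¹)) := by
        rw [mul_assoc (R.x (a / c) * R.n (-c⁻¹)), h1, h2, h3]; group
    _ = R.x (a / c) * (R.h c⁻¹ * R.x (-s⁻¹)) * R.n s⁻¹ * R.x (-s⁻¹) := by rw [h4]; simp only [mul_assoc]
    _ = R.x (a / c + c⁻¹ ^ 2 * -s⁻¹) * (R.h c⁻¹ * R.n s⁻¹) * R.x (-s⁻¹) := by
        rw [R.h_x _ _ hci, ← mul_assoc (R.x (a / c)), R.x_add]; simp only [mul_assoc]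
    _ = R.x (-b / -d) * R.n (-(-d)⁻¹) * R.x (c / -d) := by
      rw [R.h_mul_n hci (inv_ne_zero hs0)]
      congr 3
      · rw [hs]; field_simp; linear_combination hd
      · rw [hs]; field_simp
      · rw [hs]; field_simp

theorem closure_gens : Subgroup.closure (Set.range (upper (F := F)) ∪ {wElt}) = ⊤ := by
  refine eq_top_iff.2 fun g _ => ?_
  have hu : ∀ t : F, upper t ∈ Subgroup.closure (Set.range (upper (F := F)) ∪ {wElt}) :=
    fun t => Subgroup.subset_closure (Or.inl ⟨t, rfl⟩)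
  have hw : (wElt : SL(2, F)) ∈ Subgroup.closure (Set.range (upper (F := F)) ∪ {wElt}) :=
    Subgroup.subset_closure (Or.inr rfl)
  -- matrices with nonzero lower-left entry
  have key : ∀ g : SL(2, F), g 1 0 ≠ 0 → g ∈ Subgroup.closure (Set.range (upper (F := F)) ∪ {wElt}) := by
    intro g hc
    set c := g 1 0 with hcd
    have hlow : lower c = w₀ * upper (-c) * w₀⁻¹ := by
      rw [eq_mul_inv_iff_mul_eq]
      refine sl_ext ?_ ?_ ?_ ?_ <;> simp [mul_entry, upper_entries, lower_entries, wElt_entries]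
    have hkm : lower c ∈ Subgroup.closure (Set.range (upper (F := F)) ∪ {wElt}) := by
      rw [hlow]; exact mul_mem (mul_mem hw (hu _)) (inv_mem hw)
    have hd := det_eq g
    rw [← hcd] at hd
    have e : g = upper ((g 0 0 - 1) / c) * lower c * upper ((g 1 1 - 1) / c) := by
      refine sl_ext ?_ ?_ ?_ ?_ <;> simp only [mul_entry, upper_entries, lower_entries]
      · field_simp; ring
      · field_simp; linear_combination -hd
      · rw [← hcd]; ring
      · field_simp; ring
    rw [e]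
    exact mul_mem (mul_mem (hu _) hkm) (hu _)
  by_cases hc : g 1 0 = 0
  · have hd := det_eq g
    rw [hc] at hd
    have h2 := key (g * w₀) (by
      have : (g * w₀) 1 0 = - g 1 1 := by rw [mul_entry]; simp [wElt_entries]
      rw [this]
      exact neg_ne_zero.2 fun e => by rw [e] at hd; simp at hd)
    have := mul_mem h2 (inv_mem hw)
    rwa [mul_inv_cancel_right] at this
  · exact key g hc

theorem img_mul (g k : SL(2, F)) : R.img (g * k) = R.img g * R.img k := by
  have hone : R.img 1 = 1 := by simp [img, R.h_one, R.x_zero]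
  suffices ∀ g, R.img (g * k) = R.img g * R.img k from this g
  have hk : k ∈ Subgroup.closure (Set.range (upper (F := F)) ∪ {wElt}) := by rw [closure_gens]; trivial
  induction hk using Subgroup.closure_induction with
  | mem k hk =>
    intro g
    rcases hk with ⟨t, rfl⟩ | hk
    · rw [img_mul_upper, img_upper]
    · rw [Set.mem_singleton_iff] at hk
      subst hk
      rw [img_mul_w]
      congr 1
      have := R.img_mul_w 1
      rw [one_mul, hone, one_mul] at this
      exact this.symm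
  | one => intro g; rw [mul_one, hone, mul_one]
  | mul a b _ _ ha hb => intro g; rw [← mul_assoc, hb, ha, hb a, mul_assoc]
  | inv a _ ha =>
    intro g
    have h1 := ha (g * a⁻¹)
    rw [inv_mul_cancel_right] at h1
    have h2 := ha a⁻¹
    rw [inv_mul_cancel, hone] at h2
    rw [eq_comm, ← mul_left_inj (R.img a), mul_assoc, ← h2, mul_one, h1]

/-- The homomorphism from `SL₂`. -/
noncomputable def hom : SL(2, F) →* G := MonoidHom.mk' R.img R.img_mul

theorem hom_upper (t : F) : R.hom (upper t) = R.x t := R.img_upper t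

theorem hom_lower (t : F) : R.hom (lower t) = R.y t := by
  show R.img (lower t) = R.y t
  have e00 : (lower t) 0 0 = 1 := by simp [lower]
  have e10 : (lower t) 1 0 = t := by simp [lower]
  have e01 : (lower t) 0 1 = 0 := by simp [lower]
  have e11 : (lower t) 1 1 = 1 := by simp [lower]
  unfold img
  rw [e00, e10, e01, e11]
  split_ifs with ht
  · subst ht
    rw [zero_div, R.x_zero, R.h_one, mul_one]
    have h0 := R.n_y 0
    rw [neg_zero, R.x_zero, one_mul] at h0
    exact (mul_eq_left.1 h0).symm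
  · rw [R.n_def _ (neg_ne_zero.2 (inv_ne_zero ht))]
    simp only [inv_neg, inv_inv, neg_neg]
    have h1 : R.x (1 / t) * R.x (-t⁻¹) = 1 := by rw [R.x_add, one_div, add_neg_cancel, R.x_zero]
    have h2 : R.x (-t⁻¹) * R.x (1 / t) = 1 := by rw [R.x_add, one_div, neg_add_cancel, R.x_zero]
    simp only [mul_assoc, h2, mul_one]
    rw [← mul_assoc, h1, one_mul]

theorem range_hom (X Y : Subgroup G) (hX : ∀ g, g ∈ X ↔ ∃ t, g = R.x t) (hY : ∀ g, g ∈ Y ↔ ∃ t, g = R.y t) :
    R.hom.range = X ⊔ Y := by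
  refine le_antisymm ?_ (sup_le ?_ ?_)
  · rw [MonoidHom.range_eq_map, ← closure_gens, MonoidHom.map_closure, Subgroup.closure_le]
    rintro _ ⟨k, hk, rfl⟩
    rcases hk with ⟨t, rfl⟩ | hk
    · rw [hom_upper]; exact Subgroup.mem_sup_left ((hX _).2 ⟨t, rfl⟩)
    · rw [Set.mem_singleton_iff] at hk
      subst hk
      have e : w₀ = upper 1 * lower (-1) * upper 1 := by
        refine sl_ext ?_ ?_ ?_ ?_ <;> simp [mul_entry, upper_entries, lower_entries, wElt_entries]
      rw [e, map_mul, map_mul, hom_upper, hom_lower]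
      exact mul_mem (mul_mem (Subgroup.mem_sup_left ((hX _).2 ⟨_, rfl⟩)) (Subgroup.mem_sup_right ((hY _).2 ⟨_, rfl⟩)))
        (Subgroup.mem_sup_left ((hX _).2 ⟨_, rfl⟩))
  · intro g hg; obtain ⟨t, rfl⟩ := (hX g).1 hg; exact ⟨upper t, R.hom_upper t⟩
  · intro g hg; obtain ⟨t, rfl⟩ := (hY g).1 hg; exact ⟨lower t, R.hom_lower t⟩

/-- The twist of a matrix by a sign. -/
def twFun (e : F) (he : e * e = 1) (g : SL(2, F)) : SL(2, F) :=
  ⟨!![g 0 0, e * g 0 1; e * g 1 0, g 1 1], by
    rw [Matrix.det_fin_two_of]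
    linear_combination det_eq g - g 0 1 * g 1 0 * he⟩

theorem twFun_entries (e : F) (he : e * e = 1) (g : SL(2, F)) :
    twFun e he g 0 0 = g 0 0 ∧ twFun e he g 0 1 = e * g 0 1 ∧ twFun e he g 1 0 = e * g 1 0 ∧
      twFun e he g 1 1 = g 1 1 := ⟨rfl, rfl, rfl, rfl⟩

/-- The twist by a sign. -/
noncomputable def twist (e : F) (he : e * e = 1) : SL(2, F) →* SL(2, F) :=
  MonoidHom.mk' (twFun e he) (fun g k => by
    refine sl_ext ?_ ?_ ?_ ?_ <;> simp only [mul_entry, twFun_entries]
    · linear_combination -g 0 1 * k 1 0 * he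
    · ring
    · ring
    · linear_combination -g 1 0 * k 0 1 * he)

theorem twist_entries (e : F) (he : e * e = 1) (g : SL(2, F)) :
    twist e he g 0 0 = g 0 0 ∧ twist e he g 0 1 = e * g 0 1 ∧ twist e he g 1 0 = e * g 1 0 ∧
      twist e he g 1 1 = g 1 1 := ⟨rfl, rfl, rfl, rfl⟩

theorem twist_twist (e : F) (he : e * e = 1) (g : SL(2, F)) : twist e he (twist e he g) = g := by
  refine sl_ext ?_ ?_ ?_ ?_ <;> simp [twist_entries, ← mul_assoc, he]

theorem twist_upper (e : F) (he : e * e = 1) (t : F) : twist e he (upper t) = upper (e * t) := by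
  refine sl_ext ?_ ?_ ?_ ?_ <;> simp [twist_entries, upper_entries]

theorem twist_lower (e : F) (he : e * e = 1) (t : F) : twist e he (lower t) = lower (e * t) := by
  refine sl_ext ?_ ?_ ?_ ?_ <;> simp [twist_entries, lower_entries]

end RankOneData

variable {D : ChevalleyDatum} {C : Cert} {F : Type*} [Field F]

namespace Rooted

variable (hh : Rooted D C)
include hh

/-- The SL2 homomorphism of a root, as a property. -/
def HasSL2 (F : Type*) [Field F] (r : ℕ) : Prop :=
  ∀ hr : r < D.nroots, ∃ φ : SL(2, F) →* GL D.Idx F,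
    φ.range = D.rootSubgroup F r ⊔ D.rootSubgroup F (ng D r) ∧
      ∀ t : F, φ (RankOneData.upper t) = xGL hh.toChecked F hr t ∧
        φ (RankOneData.lower t) = xGL hh.toChecked F (Checked.ng_lt hr) t

theorem hasSL2_simple (hs : Twisted.chkEtaSigns D C = true) {i : ℕ} (hi : i < D.rank) :
    hh.HasSL2 F (D.simple i) := by
  intro hr
  have h := hh.toChecked
  simp only [Twisted.chkEtaSigns, allN_iff, Bool.and_eq_true, decide_eq_true_eq] at hs
  have heta : eta C i (D.simple i) = -1 := (hs i hi).1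
  classical
  let H : F → GL D.Idx F := fun t => if ht : t = 0 then 1 else torusHom D F (Pi.mulSingle i (Units.mk0 t ht))
  have hH : ∀ t, ∀ ht : t ≠ 0, H t = torusHom D F (Pi.mulSingle i (Units.mk0 t ht)) := fun t ht => by
    simp [H, ht]
  let N : F → GL D.Idx F := fun t => if t = 0 then nS hh.toChecked F i else H t * nS hh.toChecked F i
  have hN1 : N 1 = nS hh.toChecked F i := by
    have e : H 1 = 1 := by
      rw [hH 1 one_ne_zero]
      simp
    simp [N, e]
  have hHmul : ∀ a b, a ≠ 0 → b ≠ 0 → H a * H b = H (a * b) := by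
    intro a b ha hb
    rw [hH a ha, hH b hb, hH _ (mul_ne_zero ha hb), ← map_mul, ← Pi.mulSingle_mul]
    congr 2
    exact Units.ext rfl
  have hneg : N (-1) * N 1 = 1 := by
    have hm1 : (-1 : F) ≠ 0 := neg_ne_zero.2 one_ne_zero
    rw [hN1]
    refine Units.ext ?_
    have e : ((N (-1) : GL D.Idx F) : Matrix D.Idx D.Idx F) = D.nMat F (D.simple i) (-1) := by
      simp only [N, if_neg hm1, hH _ hm1, Units.val_mul]
      rw [← hh.hMat_simple_torus hi, coe_nS _ hi, Units.val_mk0, h.hMat_eq_mul, mul_assoc]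
      have h1 := h.nMat_mul_nMat_neg (F := F) hr (-1 : F)
      rw [neg_neg] at h1
      rw [h1, mul_one]
    have h2 := h.nMat_mul_nMat_neg (F := F) hr (-1 : F)
    rw [neg_neg] at h2
    rw [Units.val_mul, e, coe_nS _ hi, h2, Units.val_one]
  let R : RankOneData F (GL D.Idx F) :=
    { x := fun t => xGL hh.toChecked F hr t
      y := fun t => xGL hh.toChecked F (Checked.ng_lt hr) t
      n := N
      h := fun t => N t * N (-1)
      x_add := fun s t => h.xGL_add hr s t
      n_def := fun t ht => Units.ext (by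
        simp only [N, if_neg ht, hH t ht, Units.val_mul]
        rw [← hh.hMat_simple_torus hi, coe_nS _ hi, Units.val_mk0, h.hMat_eq_mul, mul_assoc]
        have h1 := h.nMat_mul_nMat_neg (F := F) hr (-1 : F)
        rw [neg_neg] at h1
        rw [h1, mul_one]
        simp only [ChevalleyDatum.nMat, ChevalleyDatum.nWord, ChevalleyDatum.wordMat, List.map_cons, List.map_nil,
          List.prod_cons, List.prod_nil, mul_one, h.neg_eq hr, coe_xGL, mul_assoc])
      h_def := fun t => rfl
      n_neg := hneg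
      h_mul := fun a b ha hb => by
        have e : ∀ c, c ≠ 0 → N c * N (-1) = H c := fun c hc => by
          have h1 : N c = H c * N 1 := by rw [hN1]; simp [N, hc]
          have h2 : N 1 * N (-1) = 1 := by rw [mul_eq_one_comm]; exact hneg
          rw [h1, mul_assoc, h2, mul_one]
        rw [e a ha, e b hb, e _ (mul_ne_zero ha hb), hHmul a b ha hb]
      h_x := fun a t ha => by
        have h1 : N a = H a * N 1 := by rw [hN1]; simp [N, ha]
        have h2 : N 1 * N (-1) = 1 := by rw [mul_eq_one_comm]; exact hneg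
        rw [h1, mul_assoc (H a), h2, mul_one, hH a ha, ← mul_inv_eq_iff_eq_mul, h.conj_x hr]
        congr 2
        simp only [torusFun]
        rw [Finset.prod_eq_single i]
        · rw [Pi.mulSingle_eq_same, h.cartan_self hi]; simp
        · intro j _ hj; simp [Pi.mulSingle_eq_of_ne hj]
        · intro hn; exact absurd (Finset.mem_range.2 hi) hn
      n_y := fun u => by
        rw [hN1, h.nS_conj_x hi (Checked.ng_lt hr)]
        congr 1
        rw [h.eta_ng hi hr, heta]
        refine Units.ext ?_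
        rw [coe_xGL, coe_xGL, h.refl_ng hi hr, h.simple_refl hi, Checked.ng_ng hr]
        simp }
  refine ⟨R.hom, R.range_hom _ _ (fun g => h.rootSubgroup_mem_iff hr) (fun g => h.rootSubgroup_mem_iff (Checked.ng_lt hr)),
    fun t => ⟨R.hom_upper t, R.hom_lower t⟩⟩

theorem hasSL2 (hs : Twisted.chkEtaSigns D C = true) : ∀ r < D.nroots, hh.HasSL2 F r := by
  refine hh.root_induction (P := fun r => hh.HasSL2 F r) (fun i hi => hh.hasSL2_simple hs hi) fun i hi r hr ih hr' => ?_
  have h := hh.toChecked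
  obtain ⟨φ, hrange, hφ⟩ := ih hr
  set s := nS hh.toChecked F i with hsdef
  -- twist by the sign
  set e : F := (eta C i r : F) with he
  have he2 : e * e = 1 := etaF_sq i r
  let τ : SL(2, F) →* SL(2, F) := RankOneData.twist e he2
  have hτsurj : Function.Surjective τ := fun g => ⟨τ g, RankOneData.twist_twist e he2 g⟩
  refine ⟨(MulAut.conj s).toMonoidHom.comp (φ.comp τ), ?_, fun t => ⟨?_, ?_⟩⟩
  · rw [MonoidHom.range_comp, MonoidHom.range_comp, MonoidHom.range_eq_top.2 hτsurj, ← MonoidHom.range_eq_map,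
      hrange, Subgroup.map_sup]
    have key : ∀ a, ∀ ha : a < D.nroots,
        (D.rootSubgroup F a).map (MulAut.conj s).toMonoidHom = D.rootSubgroup F (refl C i a) := by
      intro a ha
      ext g
      rw [Subgroup.mem_map, h.rootSubgroup_mem_iff (h.refl_lt hi ha)]
      constructor
      · rintro ⟨x, hx, rfl⟩
        obtain ⟨u, rfl⟩ := (h.rootSubgroup_mem_iff ha).1 hx
        exact ⟨(eta C i a : F) * u, by simp [hsdef, h.nS_conj_x hi ha]⟩
      · rintro ⟨u, rfl⟩
        refine ⟨xGL hh.toChecked F ha ((eta C i a : F) * u), (h.rootSubgroup_mem_iff ha).2 ⟨_, rfl⟩, ?_⟩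
        simp [hsdef, h.nS_conj_x hi ha, ← mul_assoc, etaF_sq]
    rw [key r hr, key _ (Checked.ng_lt hr), h.refl_ng hi hr]
  · have et : τ (RankOneData.upper t) = RankOneData.upper (e * t) := RankOneData.twist_upper e he2 t
    simp only [MonoidHom.comp_apply, et, (hφ _).1, MulEquiv.coe_toMonoidHom, MulAut.conj_apply, hsdef,
      h.nS_conj_x hi hr, mul_inv_cancel_right]
    congr 1
    rw [← mul_assoc, he, etaF_sq, one_mul]
  · have et : τ (RankOneData.lower t) = RankOneData.lower (e * t) := RankOneData.twist_lower e he2 t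
    simp only [MonoidHom.comp_apply, et, (hφ _).2, MulEquiv.coe_toMonoidHom, MulAut.conj_apply, hsdef,
      h.nS_conj_x hi (Checked.ng_lt hr), mul_inv_cancel_right]
    refine Units.ext ?_
    rw [coe_xGL, coe_xGL, h.refl_ng hi hr, h.eta_ng hi hr, ← mul_assoc, he, etaF_sq, one_mul]

end Rooted

end Cfsg.Agent.Lib.Chev
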