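import Cfsg.Agent.Lib.Chev.Parabolic
import Cfsg.Agent.Lib.Chev.Steinberg

/-!
Steinberg's count of the unipotent elements, by induction over the parabolic subgroups.
-/

set_option autoImplicit false

namespace Cfsg.Agent.Lib.Chev

open Cfsg.Lie
open scoped Pointwise

/-- The number of elements of `p`-power order. -/
noncomputable def pCount (p : ℕ) (G : Type*) [Group G] : ℕ := Nat.card {g : G // ∃ k : ℕ, orderOf g = p ^ k}

theorem pCount_congr {p : ℕ} {G H : Type*} [Group G] [Group H] (e : G ≃* H) : pCount p G = pCount p H :=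
  Nat.card_congr (e.toEquiv.subtypeEquiv fun g => by rw [MulEquiv.toEquiv_eq_coe, EquivLike.coe_coe, e.orderOf_eq])

theorem card_fixedBy_conj {P : Type*} [Group P] (H : Subgroup P) (x g : P) :
    Nat.card (MulAction.fixedBy (P ⧸ H) (x * g * x⁻¹)) = Nat.card (MulAction.fixedBy (P ⧸ H) g) :=
  Nat.card_congr ((MulAction.toPerm x⁻¹).subtypeEquiv fun y => by
    simp only [MulAction.toPerm_apply, MulAction.mem_fixedBy, mul_smul]
    exact ⟨fun h => by rw [← inv_smul_smul x (g • x⁻¹ • y), h], fun h => by rw [h, smul_inv_smul]⟩)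

theorem sum_fixedBy_pCount {p : ℕ} {P : Type*} [Group P] [Finite P] (H : Subgroup P)
    [Fintype {g : P // ∃ k : ℕ, orderOf g = p ^ k}] :
    ∑ g : {g : P // ∃ k : ℕ, orderOf g = p ^ k}, Nat.card (MulAction.fixedBy (P ⧸ H) (g : P)) =
      H.index * pCount p ↥H := by
  classical
  haveI : Fintype (P ⧸ H) := Fintype.ofFinite _
  rw [← Nat.card_sigma]
  have e : ∀ x : P ⧸ H, Nat.card {g : {g : P // ∃ k : ℕ, orderOf g = p ^ k} // x ∈ MulAction.fixedBy (P ⧸ H) g.1} =
      pCount p ↥H := by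
    intro x
    obtain ⟨c, rfl⟩ := QuotientGroup.mk_surjective x
    have key : ∀ g : P, (c : P ⧸ H) ∈ MulAction.fixedBy (P ⧸ H) g ↔ c⁻¹ * g * c ∈ H := fun g => by
      rw [MulAction.mem_fixedBy]
      show ((g * c : P) : P ⧸ H) = (c : P ⧸ H) ↔ _
      rw [QuotientGroup.eq, ← inv_mem_iff]
      simp [mul_assoc]
    have ho : ∀ g : P, orderOf (c⁻¹ * g * c) = orderOf g := fun g => by
      simpa using (MulAut.conj c⁻¹).orderOf_eq g
    refine Nat.card_congr
      { toFun := fun g => ⟨⟨c⁻¹ * g.1.1 * c, (key _).1 g.2⟩, by rw [← Subgroup.orderOf_coe, ho]; exact g.1.2⟩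
        invFun := fun h => ⟨⟨c * h.1.1 * c⁻¹, by
          have := ho (c * h.1.1 * c⁻¹)
          rw [show c⁻¹ * (c * h.1.1 * c⁻¹) * c = h.1.1 by group, Subgroup.orderOf_coe] at this
          rw [← this]; exact h.2⟩, (key _).2 (by simp [mul_assoc])⟩
        left_inv := fun g => by
          refine Subtype.ext (Subtype.ext ?_)
          show c * (c⁻¹ * g.1.1 * c) * c⁻¹ = g.1.1
          group
        right_inv := fun h => by
          refine Subtype.ext (Subtype.ext ?_)
          show c⁻¹ * (c * h.1.1 * c⁻¹) * c = h.1.1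
          group }
  rw [Nat.card_congr
    { toFun := fun a => (⟨a.2.1, ⟨a.1, a.2.2⟩⟩ :
        Σ x : P ⧸ H, {g : {g : P // ∃ k : ℕ, orderOf g = p ^ k} // x ∈ MulAction.fixedBy (P ⧸ H) g.1})
      invFun := fun b => ⟨b.2.1, ⟨b.1, b.2.2⟩⟩
      left_inv := fun _ => rfl
      right_inv := fun _ => rfl }, Nat.card_sigma, Finset.sum_congr rfl (fun x _ => e x), Finset.sum_const,
    Finset.card_univ, smul_eq_mul, Subgroup.index_eq_card, Nat.card_eq_fintype_card]

theorem card_sup_of_normalizing {G : Type*} [Group G] {A B : Subgroup G} (hB : B ≤ Subgroup.normalizer (A : Set G))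
    (hdis : A ⊓ B = ⊥) : Nat.card ↥(A ⊔ B) = Nat.card ↥A * Nat.card ↥B := by
  let f : ↥A × ↥B → ↥(A ⊔ B) := fun x => ⟨x.1 * x.2, mul_mem (Subgroup.mem_sup_left x.1.2) (Subgroup.mem_sup_right x.2.2)⟩
  rw [← Nat.card_prod, Nat.card_congr (Equiv.ofBijective f ⟨?_, ?_⟩)]
  · rintro ⟨u, t⟩ ⟨u', t'⟩ e
    have e' : (u : G) * t = u' * t' := congrArg Subtype.val e
    have h1 : (u' : G)⁻¹ * u = t' * (t : G)⁻¹ := by
      rw [inv_mul_eq_iff_eq_mul, ← mul_assoc, ← e', mul_inv_cancel_right]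
    have h2 : (u' : G)⁻¹ * u = 1 := Subgroup.mem_bot.1 (hdis.le
      (Subgroup.mem_inf.2 ⟨mul_mem (inv_mem u'.2) u.2, h1 ▸ mul_mem t'.2 (inv_mem t.2)⟩))
    have eu : u = u' := Subtype.ext (inv_mul_eq_one.1 h2).symm
    subst eu
    rw [Subtype.ext (mul_left_cancel e')]
  · rintro ⟨g, hg⟩
    rw [← SetLike.mem_coe, Subgroup.coe_mul_of_right_le_normalizer_left A B hB, Set.mem_mul] at hg
    obtain ⟨u, hu, t, ht, rfl⟩ := hg
    exact ⟨⟨⟨u, hu⟩, ⟨t, ht⟩⟩, rfl⟩

theorem mem_left_of_mem_sup {G : Type*} [Group G] {A B U : Subgroup G} (hB : B ≤ Subgroup.normalizer (A : Set G))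
    (hA : A ≤ U) (hdis : U ⊓ B = ⊥) {g : G} (hg : g ∈ A ⊔ B) (hU : g ∈ U) : g ∈ A := by
  rw [← SetLike.mem_coe, Subgroup.coe_mul_of_right_le_normalizer_left A B hB, Set.mem_mul] at hg
  obtain ⟨u, hu, t, ht, rfl⟩ := hg
  have : t = 1 := Subgroup.mem_bot.1 (hdis.le (Subgroup.mem_inf.2
    ⟨by simpa using mul_mem (inv_mem (hA hu)) hU, ht⟩))
  simpa [this] using hu

theorem alt_sum_subsets (P : ℕ → Prop) [DecidablePred P] (J : Finset ℕ) :
    (∑ K ∈ J.powerset, (-1 : ℤ) ^ K.card * (if ∀ k ∈ K, P k then 1 else 0)) = if ∀ j ∈ J, ¬ P j then 1 else 0 := by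
  simp only [mul_ite, mul_one, mul_zero]
  rw [← Finset.sum_filter]
  have e : J.powerset.filter (fun K => ∀ k ∈ K, P k) = (J.filter P).powerset := by
    ext K
    simp only [Finset.mem_filter, Finset.mem_powerset, Finset.subset_iff]
    exact ⟨fun a x hx => ⟨a.1 hx, a.2 x hx⟩, fun a => ⟨fun x hx => (a hx).1, fun x hx => (a hx).2⟩⟩
  rw [e, Finset.sum_powerset_neg_one_pow_card]
  split_ifs with a b <;> simp_all [Finset.filter_eq_empty_iff]

variable {D : ChevalleyDatum} {C : Cert} {F : Type*} [Field F]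

/-- The Borel subgroup inside a parabolic subgroup. -/
abbrev borelP (D : ChevalleyDatum) (F : Type*) [Field F] (J : Finset ℕ) :
    Subgroup ↥(D.parabolicSubgroup F (J : Set ℕ)) :=
  (D.borelSubgroup F).subgroupOf (D.parabolicSubgroup F (J : Set ℕ))

/-- A smaller parabolic subgroup inside a parabolic subgroup. -/
abbrev paraP (D : ChevalleyDatum) (F : Type*) [Field F] (J K : Finset ℕ) :
    Subgroup ↥(D.parabolicSubgroup F (J : Set ℕ)) :=
  (D.parabolicSubgroup F (K : Set ℕ)).subgroupOf (D.parabolicSubgroup F (J : Set ℕ))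

/-- The Weyl group element of the cell of an element. -/
noncomputable def cellOf (h : Checked D C) (g : GL D.Idx F) : Equiv.Perm (Fin D.nroots) :=
  Classical.epsilon fun w => g ∈ bcell h F w

/-- The Weyl group element of the cell of a coset of the Borel subgroup in a parabolic subgroup. -/
noncomputable def cellQ (h : Checked D C) {J : Finset ℕ}
    (x : ↥(D.parabolicSubgroup F (J : Set ℕ)) ⧸ borelP D F J) : Equiv.Perm (Fin D.nroots) :=
  cellOf h (x.out : GL D.Idx F)

/-- The Steinberg function of a parabolic subgroup. -/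
noncomputable def stP (D : ChevalleyDatum) (F : Type*) [Field F] (J : Finset ℕ)
    (g : ↥(D.parabolicSubgroup F (J : Set ℕ))) : ℤ :=
  ∑ K ∈ J.powerset, (-1 : ℤ) ^ K.card *
    (Nat.card (MulAction.fixedBy (↥(D.parabolicSubgroup F (J : Set ℕ)) ⧸ paraP D F J K) g) : ℤ)

/-- The elements of the Weyl group of `J` as a finite set. -/
noncomputable def weylFinset (h : Checked D C) (J : Finset ℕ) : Finset (Equiv.Perm (Fin D.nroots)) :=
  @Finset.filter _ (fun w => w ∈ weyl h J) (Classical.decPred _) Finset.univ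

theorem mem_weylFinset {h : Checked D C} {J : Finset ℕ} {w : Equiv.Perm (Fin D.nroots)} :
    w ∈ weylFinset h J ↔ w ∈ weyl h J := by simp [weylFinset]

theorem parabolic_mono {J K : Finset ℕ} (hKJ : K ⊆ J) :
    D.parabolicSubgroup F (K : Set ℕ) ≤ D.parabolicSubgroup F (J : Set ℕ) :=
  sup_le_sup_left (Subgroup.closure_mono (by rintro g ⟨j, hj, h1, h2⟩; exact ⟨j, hKJ hj, h1, h2⟩)) _

namespace Rooted

variable (hh : Rooted D C)
include hh

theorem cellOf_eq {w : Equiv.Perm (Fin D.nroots)} {g : GL D.Idx F} (hg : g ∈ bcell hh.toChecked F w) :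
    cellOf hh.toChecked g = w :=
  hh.bcell_unique (Classical.epsilon_spec (p := fun w => g ∈ bcell hh.toChecked F w) ⟨w, hg⟩) hg

theorem cellOf_spec {J : Finset ℕ} {g : GL D.Idx F} (hg : g ∈ D.parabolicSubgroup F (J : Set ℕ)) :
    cellOf hh.toChecked g ∈ weyl hh.toChecked J ∧ g ∈ bcell hh.toChecked F (cellOf hh.toChecked g) := by
  obtain ⟨u, hu, hm⟩ := hh.exists_weyl_of_mem_parabolic hg
  rw [hh.cellOf_eq hm]
  exact ⟨hu, hm⟩

theorem cellQ_mk {J : Finset ℕ} (g : ↥(D.parabolicSubgroup F (J : Set ℕ))) :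
    cellQ hh.toChecked (g : ↥(D.parabolicSubgroup F (J : Set ℕ)) ⧸ borelP D F J) =
      cellOf hh.toChecked (g : GL D.Idx F) := by
  obtain ⟨b, hb⟩ := QuotientGroup.mk_out_eq_mul (borelP D F J) g
  unfold cellQ
  rw [hb]
  refine hh.cellOf_eq ?_
  rw [Subgroup.coe_mul]
  exact bcell_mul_right (hh.cellOf_spec g.2).2 b.2

theorem cellQ_mem {J : Finset ℕ} (x : ↥(D.parabolicSubgroup F (J : Set ℕ)) ⧸ borelP D F J) :
    cellQ hh.toChecked x ∈ weyl hh.toChecked J :=
  (hh.cellOf_spec x.out.2).1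

theorem cellQ_smul {J : Finset ℕ} {b : ↥(D.parabolicSubgroup F (J : Set ℕ))} (hb : b ∈ borelP D F J)
    (x : ↥(D.parabolicSubgroup F (J : Set ℕ)) ⧸ borelP D F J) :
    cellQ hh.toChecked (b • x) = cellQ hh.toChecked x := by
  induction x using QuotientGroup.induction_on with
  | H g =>
    rw [MulAction.Quotient.smul_mk, smul_eq_mul, hh.cellQ_mk, hh.cellQ_mk, Subgroup.coe_mul]
    exact hh.cellOf_eq (bcell_mul_left hb (hh.cellOf_spec g.2).2)

/-- Fixed points on the cosets of a smaller parabolic subgroup, read on the cosets of `B`. -/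
theorem card_fixed_para {J K : Finset ℕ} (hJ : J ⊆ Finset.range D.rank) (hK : K ⊆ J)
    {b : ↥(D.parabolicSubgroup F (J : Set ℕ))} (hb : b ∈ borelP D F J) :
    Nat.card (MulAction.fixedBy (↥(D.parabolicSubgroup F (J : Set ℕ)) ⧸ paraP D F J K) b) =
      Nat.card {x : MulAction.fixedBy (↥(D.parabolicSubgroup F (J : Set ℕ)) ⧸ borelP D F J) b //
        ∀ k ∈ K, Asc (cellQ hh.toChecked x.1) k} := by
  refine card_fixedBy_quotient_of_section (B := borelP D F J) (P := paraP D F J K)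
    (Subgroup.comap_mono le_sup_left) (fun x => ∀ k ∈ K, Asc (cellQ hh.toChecked x) k) b
    (fun x hx => by rw [hh.cellQ_smul hb]; exact hx) ?_ ?_
  · intro g g' hg hg' e
    rw [hh.cellQ_mk] at hg hg'
    exact (hh.parabolic_inj (hK.trans hJ) (hh.cellOf_spec g.2).2 (hh.cellOf_spec g'.2).2 hg hg' e).2
  · intro g
    obtain ⟨q, hq, w', hw', hm⟩ := hh.parabolic_exists (hK.trans hJ) (hh.cellOf_spec g.2).2
    refine ⟨⟨q, parabolic_mono hK hq⟩, hq, ?_⟩
    rw [hh.cellQ_mk, Subgroup.coe_mul, hh.cellOf_eq hm]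
    exact hw'

theorem stP_borel [Fintype F] {J : Finset ℕ} (hJ : J ⊆ Finset.range D.rank)
    {b : ↥(D.parabolicSubgroup F (J : Set ℕ))} (hb : b ∈ borelP D F J) :
    stP D F J b = (Nat.card {x : MulAction.fixedBy (↥(D.parabolicSubgroup F (J : Set ℕ)) ⧸ borelP D F J) b //
      ∀ j ∈ J, ¬ Asc (cellQ hh.toChecked x.1) j} : ℤ) := by
  classical
  haveI : Fintype (MulAction.fixedBy (↥(D.parabolicSubgroup F (J : Set ℕ)) ⧸ borelP D F J) b) := Fintype.ofFinite _
  unfold stP
  rw [Finset.sum_congr rfl (fun K hK => by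
    rw [hh.card_fixed_para hJ (Finset.mem_powerset.1 hK) hb, Nat.card_eq_fintype_card, Fintype.card_subtype,
      ← Finset.sum_boole, Finset.mul_sum]), Finset.sum_comm, Nat.card_eq_fintype_card, Fintype.card_subtype,
    ← Finset.sum_boole]
  exact Finset.sum_congr rfl fun x _ => by convert alt_sum_subsets (fun k => Asc (cellQ hh.toChecked x.1) k) J

/-- The stabiliser of the longest cell. -/
abbrev topStab (D : ChevalleyDatum) (C : Cert) (F : Type*) [Field F] (J : Finset ℕ) :
    Subgroup ↥(borelP D F J) :=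
  ((rootGen D F (outSet D C J) ⊔ D.diagonalSubgroup F).subgroupOf
    (D.parabolicSubgroup F (J : Set ℕ))).subgroupOf (borelP D F J)

theorem card_fixed_topP [Fintype F] {J : Finset ℕ} (hJ : J ⊆ Finset.range D.rank) (b : ↥(borelP D F J)) :
    Nat.card {x : MulAction.fixedBy (↥(D.parabolicSubgroup F (J : Set ℕ)) ⧸ borelP D F J)
        (b : ↥(D.parabolicSubgroup F (J : Set ℕ))) // ∀ j ∈ J, ¬ Asc (cellQ hh.toChecked x.1) j} =
      Nat.card (MulAction.fixedBy (↥(borelP D F J) ⧸ topStab D C F J) b) := by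
  have h := hh.toChecked
  obtain ⟨w, hw⟩ := hh.exists_top hJ
  obtain ⟨L, hLJ, eL⟩ := h.exists_wperm hw.1
  have hL : IsWord D L := fun i hi => Finset.mem_range.1 (hJ (hLJ i hi))
  subst eL
  set n := nProd hh.toChecked F L with hn
  let n0 : ↥(D.parabolicSubgroup F (J : Set ℕ)) := ⟨n⁻¹, inv_mem (hh.nProd_mem_parabolic hJ hLJ)⟩
  refine card_fixedBy_subgroup_orbit (borelP D F J) (topStab D C F J) n0
    (fun x => ∀ j ∈ J, ¬ Asc (cellQ hh.toChecked x) j) b ?_ ?_ ?_
  · intro c
    have hc : cellQ hh.toChecked (((c : ↥(D.parabolicSubgroup F (J : Set ℕ))) * n0 :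
        ↥(D.parabolicSubgroup F (J : Set ℕ))) : ↥(D.parabolicSubgroup F (J : Set ℕ)) ⧸ borelP D F J) =
        (wperm hh.toChecked L)⁻¹ := by
      rw [hh.cellQ_mk, Subgroup.coe_mul]
      exact hh.cellOf_eq (bcell_mul_left c.2 (hh.bcell_inv (hh.nProd_mem_bcell hL)))
    rw [hc, hh.top_inv hJ hw]
    exact hw.2
  · intro g hga
    rw [hh.cellQ_mk] at hga
    have hg := hh.cellOf_spec g.2
    have hm := hh.bcell_inv hg.2
    rw [hh.top_unique hJ ⟨hg.1, hga⟩ hw, hh.top_inv hJ hw] at hm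
    obtain ⟨p, hp, q, hq, e⟩ := hh.exists_of_mem_bcell hL hm
    refine ⟨⟨⟨q⁻¹, Subgroup.mem_sup_left (inv_mem hq)⟩, inv_mem hq⟩, QuotientGroup.eq.2 ?_⟩
    rw [Subgroup.mem_subgroupOf]
    simp only [Subgroup.coe_mul, Subgroup.coe_inv, n0]
    have e' : (g : GL D.Idx F) = q⁻¹ * n⁻¹ * p⁻¹ := by rw [hn, ← inv_inv (g : GL D.Idx F), e]; group
    rw [e']
    simpa [mul_assoc] using inv_mem hp
  · intro c c'
    simp only [topStab, borelP, Subgroup.mem_subgroupOf, Subgroup.coe_mul, Subgroup.coe_inv, n0]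
    rw [← hh.conj_top_mem_borel_iff hJ hL hw (d := ((c : ↥(D.parabolicSubgroup F (J : Set ℕ))) : GL D.Idx F)⁻¹ *
      ((c' : ↥(D.parabolicSubgroup F (J : Set ℕ))) : GL D.Idx F)) (mul_mem (inv_mem c.2) c'.2)]
    simp [mul_assoc, n]

theorem borel_le_normalizer_pos : D.borelSubgroup F ≤ Subgroup.normalizer (D.posUnipotent F : Set (GL D.Idx F)) :=
  sup_le Subgroup.le_normalizer hh.diagonal_le_normalizer_posUnipotent

theorem outSet_rootGen_le {J : Finset ℕ} : rootGen D F (outSet D C J) ≤ D.posUnipotent F := by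
  rw [hh.toChecked.posUnipotent_eq]
  exact rootGen_mono fun r hr => hr.1

theorem card_topStab [Fintype F] {J : Finset ℕ} (hJ : J ⊆ Finset.range D.rank) :
    Nat.card ↥(rootGen D F (outSet D C J)) * Nat.card (↥(borelP D F J) ⧸ topStab D C F J) =
      Nat.card ↥(D.posUnipotent F) := by
  have e := Subgroup.card_eq_card_quotient_mul_card_subgroup (topStab D C F J)
  have hle : rootGen D F (outSet D C J) ⊔ D.diagonalSubgroup F ≤ D.borelSubgroup F :=
    sup_le (hh.outSet_rootGen_le.trans le_sup_left) le_sup_right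
  have hBP : D.borelSubgroup F ≤ D.parabolicSubgroup F (J : Set ℕ) := le_sup_left
  have eB : Nat.card ↥(borelP D F J) = Nat.card ↥(D.borelSubgroup F) :=
    Nat.card_congr (Subgroup.subgroupOfEquivOfLe hBP).toEquiv
  have eT : Nat.card ↥(topStab D C F J) = Nat.card ↥(rootGen D F (outSet D C J) ⊔ D.diagonalSubgroup F) :=
    (Nat.card_congr (Subgroup.subgroupOfEquivOfLe
      (H := (rootGen D F (outSet D C J) ⊔ D.diagonalSubgroup F).subgroupOf (D.parabolicSubgroup F (J : Set ℕ)))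
      (K := borelP D F J) (Subgroup.comap_mono hle)).toEquiv).trans
      (Nat.card_congr (Subgroup.subgroupOfEquivOfLe (hle.trans hBP)).toEquiv)
  rw [eB, eT, hh.card_borel_mul, card_sup_of_normalizing (hh.diagonal_le_normalizer outSet_lt)
    (le_bot_iff.1 ((inf_le_inf_right _ hh.outSet_rootGen_le).trans hh.posUnipotent_inf_diagonal.le)),
    ← mul_assoc] at e
  rw [mul_comm]
  exact (Nat.eq_of_mul_eq_mul_right Nat.card_pos e).symm

set_option synthInstance.maxHeartbeats 200000 in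
theorem stP_pos [Fintype F] {J : Finset ℕ} (hJ : J ⊆ Finset.range D.rank)
    (b : ↥(D.parabolicSubgroup F (J : Set ℕ))) (hb : (b : GL D.Idx F) ∈ D.posUnipotent F) :
    stP D F J b = @ite ℤ ((b : GL D.Idx F) ∈ rootGen D F (outSet D C J)) (Classical.dec _)
      (Nat.card (↥(borelP D F J) ⧸ topStab D C F J) : ℤ) 0 := by
  have hbB : b ∈ borelP D F J := Subgroup.mem_sup_left hb
  rw [hh.stP_borel hJ hbB, hh.card_fixed_topP hJ ⟨b, hbB⟩]
  have hfix : ∀ c : ↥(borelP D F J), ((c : ↥(borelP D F J) ⧸ topStab D C F J) ∈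
      MulAction.fixedBy (↥(borelP D F J) ⧸ topStab D C F J) (⟨b, hbB⟩ : ↥(borelP D F J))) ↔
      (b : GL D.Idx F) ∈ rootGen D F (outSet D C J) := by
    intro c
    rw [MulAction.mem_fixedBy, MulAction.Quotient.smul_mk, QuotientGroup.eq, smul_eq_mul, ← inv_mem_iff]
    simp only [topStab, Subgroup.mem_subgroupOf, Subgroup.coe_mul, Subgroup.coe_inv, mul_inv_rev, inv_inv]
    set x := ((c : ↥(D.parabolicSubgroup F (J : Set ℕ))) : GL D.Idx F) with hx
    have hxP : x ∈ D.parabolicSubgroup F (J : Set ℕ) := (c : ↥(D.parabolicSubgroup F (J : Set ℕ))).2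
    have hN := Subgroup.mem_normalizer_iff.1 (hh.parabolic_le_normalizer hJ (inv_mem hxP))
    have hU : x⁻¹ * (b : GL D.Idx F) * x ∈ D.posUnipotent F := by
      simpa using (Subgroup.mem_normalizer_iff.1 (hh.borel_le_normalizer_pos (inv_mem c.2)) _).1 hb
    constructor
    · intro hm
      have h1 := mem_left_of_mem_sup (hh.diagonal_le_normalizer outSet_lt) hh.outSet_rootGen_le
        hh.posUnipotent_inf_diagonal (g := x⁻¹ * (b : GL D.Idx F) * x) (by simpa [mul_assoc] using hm) hU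
      exact (hN _).2 (by simpa using h1)
    · intro hm
      exact Subgroup.mem_sup_left (by simpa [mul_assoc] using (hN _).1 hm)
  split_ifs with hm
  · have : MulAction.fixedBy (↥(borelP D F J) ⧸ topStab D C F J) (⟨b, hbB⟩ : ↥(borelP D F J)) = Set.univ :=
      Set.eq_univ_of_forall fun x => by
        induction x using QuotientGroup.induction_on with
        | H c => exact (hfix c).2 hm
    rw [this, Nat.card_univ]
  · have : MulAction.fixedBy (↥(borelP D F J) ⧸ topStab D C F J) (⟨b, hbB⟩ : ↥(borelP D F J)) = ∅ :=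
      Set.eq_empty_of_forall_notMem fun x => by
        induction x using QuotientGroup.induction_on with
        | H c => exact fun hc => hm ((hfix c).1 hc)
    simp [this]

theorem sum_stP [Fintype F] (p : ℕ) [Fact p.Prime] [CharP F p] {J : Finset ℕ} (hJ : J ⊆ Finset.range D.rank)
    [Fintype {g : ↥(D.parabolicSubgroup F (J : Set ℕ)) // ∃ k : ℕ, orderOf g = p ^ k}] :
    ∑ g : {g : ↥(D.parabolicSubgroup F (J : Set ℕ)) // ∃ k : ℕ, orderOf g = p ^ k}, stP D F J g.1 =
      (Nat.card ↥(D.posUnipotent F) : ℤ) := by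
  classical
  set P := D.parabolicSubgroup F (J : Set ℕ) with hP
  obtain ⟨S, hS⟩ := hh.exists_sylow_posUnipotent (F := F) p
  have hUP : D.posUnipotent F ≤ P := le_sup_left.trans le_sup_left
  have hU : IsPGroup p ↥(D.posUnipotent F) :=
    (hS ▸ S.2).of_equiv (Subgroup.subgroupOfEquivOfLe hh.toChecked.posUnipotent_le_group)
  set UP := (D.posUnipotent F).subgroupOf P with hUPdef
  have hUPp : IsPGroup p ↥UP := hU.of_equiv (Subgroup.subgroupOfEquivOfLe hUP).symm
  have hidx : ¬ p ∣ UP.index := by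
    intro hd
    have hle : ((D.posUnipotent F).subgroupOf (D.group F)) ≤ P.subgroupOf (D.group F) := Subgroup.comap_mono hUP
    have h1 := Subgroup.relIndex_mul_index hle
    have h2 : ((D.posUnipotent F).subgroupOf (D.group F)).relIndex (P.subgroupOf (D.group F)) = UP.index := by
      rw [Subgroup.relIndex_subgroupOf (hh.parabolic_le_group J)]
      rfl
    rw [h2, ← hS] at h1
    exact S.not_dvd_index (h1 ▸ hd.mul_right _)
  let Q : Sylow p ↥P := hUPp.toSylow hidx
  have hval : ∀ g : {g : ↥P // ∃ k : ℕ, orderOf g = p ^ k}, stP D F J g.1 =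
      if (g.1 : GL D.Idx F) ∈ rootGen D F (outSet D C J)
        then (Nat.card (↥(borelP D F J) ⧸ topStab D C F J) : ℤ) else 0 := by
    rintro ⟨g, k, hk⟩
    obtain ⟨R, hR⟩ := (IsPGroup.of_card (n := k) (by rw [Nat.card_zpowers, hk]) :
      IsPGroup p ↥(Subgroup.zpowers g)).exists_le_sylow
    obtain ⟨x, hx⟩ := MulAction.exists_smul_eq ↥P R Q
    have hxg : x * g * x⁻¹ ∈ UP := by
      have : x * g * x⁻¹ ∈ (Q : Subgroup ↥P) := by
        rw [← hx, Sylow.coe_subgroup_smul, Subgroup.mem_pointwise_smul_iff_inv_smul_mem]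
        simpa [MulAut.smul_def, mul_assoc] using hR (Subgroup.mem_zpowers g)
      exact this
    have h1 : stP D F J (x * g * x⁻¹) = stP D F J g :=
      Finset.sum_congr rfl fun K _ => by rw [card_fixedBy_conj]
    rw [← h1, hh.stP_pos (F := F) hJ (x * g * x⁻¹) hxg]
    have hiff : ((x * g * x⁻¹ : ↥P) : GL D.Idx F) ∈ rootGen D F (outSet D C J) ↔
        (g : GL D.Idx F) ∈ rootGen D F (outSet D C J) :=
      ((Subgroup.mem_normalizer_iff.1 (hh.parabolic_le_normalizer hJ x.2)) _).symm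
    simp only [hiff]
  rw [Finset.sum_congr rfl (fun g _ => hval g), ← Finset.sum_filter, Finset.sum_const, nsmul_eq_mul]
  have hcard : Nat.card {g : {g : ↥P // ∃ k : ℕ, orderOf g = p ^ k} //
      (g.1 : GL D.Idx F) ∈ rootGen D F (outSet D C J)} = Nat.card ↥(rootGen D F (outSet D C J)) := by
    refine Nat.card_congr
      { toFun := fun g => ⟨(g.1.1 : GL D.Idx F), g.2⟩
        invFun := fun a => ⟨⟨⟨a.1, hUP (hh.outSet_rootGen_le a.2)⟩, ?_⟩, a.2⟩
        left_inv := fun g => rfl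
        right_inv := fun a => rfl }
    obtain ⟨k, hk⟩ := IsPGroup.iff_orderOf.1 hU ⟨a.1, hh.outSet_rootGen_le a.2⟩
    exact ⟨k, by rw [← Subgroup.orderOf_coe] at hk ⊢; exact hk⟩
  rw [← Nat.subtype_card (p := fun g : {g : ↥P // ∃ k : ℕ, orderOf g = p ^ k} =>
    (g.1 : GL D.Idx F) ∈ rootGen D F (outSet D C J)) _ (fun g => by simp), hcard, ← Nat.cast_mul, hh.card_topStab hJ]

theorem card_cell [Fintype F] {J : Finset ℕ} (hJ : J ⊆ Finset.range D.rank) {w : Equiv.Perm (Fin D.nroots)}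
    (hw : w ∈ weyl hh.toChecked J) :
    Nat.card {x : ↥(D.parabolicSubgroup F (J : Set ℕ)) ⧸ borelP D F J // cellQ hh.toChecked x = w} =
      Fintype.card F ^ (invs w).card := by
  have h := hh.toChecked
  obtain ⟨L, hLJ, eL⟩ := h.exists_wperm (inv_mem hw)
  have hL : IsWord D L := fun i hi => Finset.mem_range.1 (hJ (hLJ i hi))
  set n := nProd hh.toChecked F L with hn
  have hnP : n ∈ D.parabolicSubgroup F (J : Set ℕ) := hh.nProd_mem_parabolic hJ hLJ
  have huU : ∀ u ∈ rootGen D F (invSet D C L), u ∈ D.posUnipotent F := fun u hu => by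
    rw [h.posUnipotent_eq]; exact rootGen_mono (h.invSet_subset L) hu
  let f : ↥(rootGen D F (invSet D C L)) →
      {x : ↥(D.parabolicSubgroup F (J : Set ℕ)) ⧸ borelP D F J // cellQ hh.toChecked x = w} := fun u =>
    ⟨((⟨(u : GL D.Idx F)⁻¹ * n⁻¹, mul_mem (inv_mem (Subgroup.mem_sup_left (Subgroup.mem_sup_left (huU _ u.2))))
      (inv_mem hnP)⟩ : ↥(D.parabolicSubgroup F (J : Set ℕ))) :
        ↥(D.parabolicSubgroup F (J : Set ℕ)) ⧸ borelP D F J), by
      rw [hh.cellQ_mk]
      refine hh.cellOf_eq ?_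
      have := bcell_mul_left (inv_mem (Subgroup.mem_sup_left (huU _ u.2) : (u : GL D.Idx F) ∈ D.borelSubgroup F))
        (hh.bcell_inv (hh.nProd_mem_bcell (F := F) hL))
      rwa [eL, inv_inv] at this⟩
  have e1 : (invs w).card = (invs (wperm hh.toChecked L)).card := by
    rw [eL, h.card_invs_inv (weyl_mono h hJ hw)]
  rw [e1, ← hh.card_invSet hL, ← hh.card_rootGen (h.invSet_subset _) (h.closedSet_invSet hL)]
  refine (Nat.card_congr (Equiv.ofBijective f ⟨fun u u' e => ?_, fun x => ?_⟩)).symm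
  · have e' := QuotientGroup.eq.1 (congrArg Subtype.val e)
    rw [Subgroup.mem_subgroupOf] at e'
    simp only [Subgroup.coe_mul, Subgroup.coe_inv] at e'
    have e2 : n * ((u : GL D.Idx F) * (u' : GL D.Idx F)⁻¹) * n⁻¹ ∈ D.borelSubgroup F := by
      simpa [mul_assoc] using e'
    have e3 := h.conj_invSet_le (F := F) hL (mul_mem u.2 (inv_mem u'.2))
    have e4 := Subgroup.mem_bot.1 (hh.borel_inf_negUnipotent.le (Subgroup.mem_inf.2 ⟨e2, e3⟩))
    exact Subtype.ext (mul_inv_eq_one.1 (conj_eq_one_iff.1 e4))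
  · obtain ⟨x, hx⟩ := x
    induction x using QuotientGroup.induction_on with
    | H g =>
      rw [hh.cellQ_mk] at hx
      have hm := hh.bcell_inv (hh.cellOf_spec g.2).2
      rw [hx, ← eL] at hm
      obtain ⟨L', hL', e', hdc⟩ := hm
      obtain ⟨p, hp, q, hq, e⟩ := hh.exists_of_mem_bcell hL (⟨L', hL', e', hdc⟩ : _ ∈ bcell hh.toChecked F _)
      obtain ⟨b, hb, u, hu, e2⟩ := hh.exists_mul_of_mem_doubleCoset hL
        (DoubleCoset.mem_doubleCoset.2 ⟨p, hp, q, hq, e⟩)
      refine ⟨⟨u, hu⟩, Subtype.ext (QuotientGroup.eq.2 ?_)⟩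
      rw [Subgroup.mem_subgroupOf]
      simp only [Subgroup.coe_mul, Subgroup.coe_inv]
      rw [← inv_inv (g : GL D.Idx F), e2]
      simpa [n, mul_assoc] using inv_mem hb

theorem index_paraP [Fintype F] {J K : Finset ℕ} (hJ : J ⊆ Finset.range D.rank) (hK : K ⊆ J)
    [DecidablePred fun w : Equiv.Perm (Fin D.nroots) => ∀ k ∈ K, Asc w k] :
    (paraP D F J K).index =
      ∑ w ∈ (weylFinset hh.toChecked J).filter (fun w => ∀ k ∈ K, Asc w k), Fintype.card F ^ (invs w).card := by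
  classical
  haveI : Fintype (↥(D.parabolicSubgroup F (J : Set ℕ)) ⧸ borelP D F J) := Fintype.ofFinite _
  have h1 := hh.card_fixed_para hJ hK (b := (1 : ↥(D.parabolicSubgroup F (J : Set ℕ)))) (one_mem _)
  rw [MulAction.fixedBy_one_eq_univ, Nat.card_univ] at h1
  rw [Subgroup.index_eq_card, h1]
  rw [Nat.card_congr (show {x : MulAction.fixedBy (↥(D.parabolicSubgroup F (J : Set ℕ)) ⧸ borelP D F J)
      (1 : ↥(D.parabolicSubgroup F (J : Set ℕ))) // ∀ k ∈ K, Asc (cellQ hh.toChecked x.1) k} ≃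
      {x : ↥(D.parabolicSubgroup F (J : Set ℕ)) ⧸ borelP D F J // ∀ k ∈ K, Asc (cellQ hh.toChecked x) k} from
    ⟨fun x => ⟨x.1.1, x.2⟩, fun x => ⟨⟨x.1, one_smul _ _⟩, x.2⟩, fun _ => rfl, fun _ => rfl⟩),
    Nat.card_eq_fintype_card, Fintype.card_subtype]
  rw [Finset.card_eq_sum_card_fiberwise (f := fun x => cellQ hh.toChecked x)
    (t := (weylFinset hh.toChecked J).filter (fun w => ∀ k ∈ K, Asc w k))]
  · refine Finset.sum_congr rfl fun w hw => ?_
    rw [Finset.mem_filter, mem_weylFinset] at hw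
    rw [← hh.card_cell hJ hw.1, Nat.card_eq_fintype_card, Fintype.card_subtype]
    congr 1
    ext x
    simp only [Finset.mem_filter, Finset.mem_univ, true_and]
    exact ⟨fun a => a.2, fun a => ⟨a ▸ hw.2, a⟩⟩
  · intro x hx
    simp only [Finset.coe_filter, Set.mem_setOf_eq, Finset.mem_univ, true_and] at hx ⊢
    exact ⟨mem_weylFinset.2 (hh.cellQ_mem x), hx⟩

/-- The alternating identity of the parabolic indices. -/
theorem alt_index_identity [Fintype F] {J : Finset ℕ} (hJ : J ⊆ Finset.range D.rank)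
    (top : Finset ℕ → Equiv.Perm (Fin D.nroots)) (htop : ∀ K ⊆ J, IsTop hh.toChecked K (top K)) :
    (∑ K ∈ J.powerset, (-1 : ℤ) ^ K.card *
      (((paraP D F J K).index * Fintype.card F ^ (invs (top K)).card : ℕ) : ℤ)) = 1 := by
  classical
  have h := hh.toChecked
  have e : ∀ K ∈ J.powerset, (paraP D F J K).index * Fintype.card F ^ (invs (top K)).card =
      ∑ w ∈ (weylFinset hh.toChecked J).filter (fun w => ∀ k ∈ K, ¬ Asc w k),
        Fintype.card F ^ (invs w).card := by
    intro K hK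
    have hKJ := Finset.mem_powerset.1 hK
    have hKr := hKJ.trans hJ
    have htJ : top K ∈ weyl h J := weyl_mono h hKJ (htop K hKJ).1
    rw [hh.index_paraP hJ hKJ, Finset.sum_mul]
    refine Finset.sum_nbij' (fun w => w * top K) (fun w => w * top K) ?_ ?_ ?_ ?_ ?_
    · intro w hw
      rw [Finset.mem_filter, mem_weylFinset] at hw ⊢
      exact ⟨mul_mem hw.1 htJ, (hh.mul_top_iff hKr (weyl_mono h hJ hw.1) (htop K hKJ)).1 hw.2⟩
    · intro w hw
      rw [Finset.mem_filter, mem_weylFinset] at hw ⊢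
      refine ⟨mul_mem hw.1 htJ, (hh.mul_top_iff hKr (weyl_mono h hJ (mul_mem hw.1 htJ)) (htop K hKJ)).2 ?_⟩
      rw [mul_assoc]
      nth_rewrite 1 [← hh.top_inv hKr (htop K hKJ)]
      rw [inv_mul_cancel, mul_one]
      exact hw.2
    · intro w _
      nth_rewrite 2 [← hh.top_inv hKr (htop K hKJ)]
      rw [mul_inv_cancel_right]
    · intro w _
      nth_rewrite 2 [← hh.top_inv hKr (htop K hKJ)]
      rw [mul_inv_cancel_right]
    · intro w hw
      rw [Finset.mem_filter, mem_weylFinset] at hw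
      rw [hh.card_invs_mul_top hKr (weyl_mono h hJ hw.1) (htop K hKJ) hw.2, pow_add]
  rw [Finset.sum_congr rfl (fun K hK => by rw [e K hK])]
  push_cast
  simp only [Finset.sum_filter, Finset.mul_sum]
  rw [Finset.sum_comm]
  rw [Finset.sum_eq_single_of_mem (1 : Equiv.Perm (Fin D.nroots)) (mem_weylFinset.2 (one_mem _))]
  · rw [Finset.sum_eq_single_of_mem (∅ : Finset ℕ) (Finset.empty_mem_powerset J)]
    · have h0 : invs (1 : Equiv.Perm (Fin D.nroots)) = ∅ := Finset.eq_empty_of_forall_notMem fun r hr => by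
        rw [h.mem_invs, Equiv.Perm.one_apply] at hr
        exact hr.2 hr.1
      simp [h0]
    · intro K hK hne
      obtain ⟨k, hk⟩ := Finset.nonempty_iff_ne_empty.2 hne
      rw [if_neg (fun a => a k hk (h.asc_one (Finset.mem_range.1 (hJ (Finset.mem_powerset.1 hK hk))))), mul_zero]
  · intro w hw hne
    have : (∑ K ∈ J.powerset, (-1 : ℤ) ^ K.card * (if ∀ k ∈ K, ¬ Asc w k then 1 else 0)) = 0 := by
      rw [alt_sum_subsets (fun k => ¬ Asc w k) J, if_neg]
      intro a
      exact hne (hh.eq_one_of_asc_parabolic hJ (mem_weylFinset.1 hw) fun j hj => not_not.1 (a j hj))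
    calc _ = (∑ K ∈ J.powerset, (-1 : ℤ) ^ K.card * (if ∀ k ∈ K, ¬ Asc w k then 1 else 0)) *
          (Fintype.card F : ℤ) ^ (invs w).card := by
          rw [Finset.sum_mul]
          exact Finset.sum_congr rfl fun K _ => by split_ifs <;> simp
      _ = 0 := by rw [this, zero_mul]

theorem pCount_parabolic [Fintype F] (p : ℕ) [Fact p.Prime] [CharP F p]
    (top : Finset ℕ → Equiv.Perm (Fin D.nroots))
    (htop : ∀ K ⊆ Finset.range D.rank, IsTop hh.toChecked K (top K)) (J : Finset ℕ)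
    (hJ : J ⊆ Finset.range D.rank) :
    pCount p ↥(D.parabolicSubgroup F (J : Set ℕ)) =
      Nat.card ↥(D.posUnipotent F) * Fintype.card F ^ (invs (top J)).card := by
  classical
  induction J using Finset.strongInduction with
  | _ J ih =>
    haveI : Fintype {g : ↥(D.parabolicSubgroup F (J : Set ℕ)) // ∃ k : ℕ, orderOf g = p ^ k} := Fintype.ofFinite _
    have h1 := hh.sum_stP (F := F) p hJ
    simp only [stP] at h1
    rw [Finset.sum_comm] at h1
    have h2 : ∀ K ∈ J.powerset,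
        (∑ g : {g : ↥(D.parabolicSubgroup F (J : Set ℕ)) // ∃ k : ℕ, orderOf g = p ^ k}, (-1 : ℤ) ^ K.card *
          (Nat.card (MulAction.fixedBy (↥(D.parabolicSubgroup F (J : Set ℕ)) ⧸ paraP D F J K) g.1) : ℤ)) =
        (-1 : ℤ) ^ K.card * (((paraP D F J K).index * pCount p ↥(D.parabolicSubgroup F (K : Set ℕ)) : ℕ) : ℤ) := by
      intro K hK
      rw [← Finset.mul_sum, ← Nat.cast_sum, sum_fixedBy_pCount (paraP D F J K),
        pCount_congr (Subgroup.subgroupOfEquivOfLe (parabolic_mono (Finset.mem_powerset.1 hK)))]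
    rw [Finset.sum_congr rfl h2] at h1
    have h3 := hh.alt_index_identity (F := F) hJ top fun K hK => htop K (hK.trans hJ)
    have hJm : J ∈ J.powerset := Finset.mem_powerset_self J
    rw [← Finset.add_sum_erase _ _ hJm] at h1 h3
    have hrest : ∑ K ∈ J.powerset.erase J, (-1 : ℤ) ^ K.card *
          (((paraP D F J K).index * pCount p ↥(D.parabolicSubgroup F (K : Set ℕ)) : ℕ) : ℤ) =
        (Nat.card ↥(D.posUnipotent F) : ℤ) * ∑ K ∈ J.powerset.erase J, (-1 : ℤ) ^ K.card *
          (((paraP D F J K).index * Fintype.card F ^ (invs (top K)).card : ℕ) : ℤ) := by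
      rw [Finset.mul_sum]
      refine Finset.sum_congr rfl fun K hK => ?_
      obtain ⟨hne, hK'⟩ := Finset.mem_erase.1 hK
      have hKJ := Finset.mem_powerset.1 hK'
      rw [ih K (Finset.ssubset_iff_subset_ne.2 ⟨hKJ, hne⟩) (hKJ.trans hJ)]
      push_cast
      ring
    have hidx : (paraP D F J J).index = 1 := by
      rw [Subgroup.index_eq_one]; exact Subgroup.subgroupOf_self _
    rw [hrest, hidx, one_mul] at h1
    rw [hidx, one_mul] at h3
    have hsgn : (-1 : ℤ) ^ J.card ≠ 0 := pow_ne_zero _ (by norm_num)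
    have h4 : (-1 : ℤ) ^ J.card * (pCount p ↥(D.parabolicSubgroup F (J : Set ℕ)) : ℤ) =
        (-1 : ℤ) ^ J.card * ((Nat.card ↥(D.posUnipotent F) * Fintype.card F ^ (invs (top J)).card : ℕ) : ℤ) := by
      push_cast at h1 h3 ⊢
      linear_combination h1 - (Nat.card ↥(D.posUnipotent F) : ℤ) * h3
    exact_mod_cast mul_left_cancel₀ hsgn h4

theorem card_unipotent [Fintype F] (p : ℕ) [Fact p.Prime] [CharP F p] :
    Nat.card {g : ↥(D.group F) // ∃ k : ℕ, orderOf g = p ^ k} = Fintype.card F ^ (2 * (D.nroots / 2)) := by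
  classical
  have h := hh.toChecked
  choose! top htop using fun K (hK : K ⊆ Finset.range D.rank) => hh.exists_top hK
  have hP : D.parabolicSubgroup F ((Finset.range D.rank : Finset ℕ) : Set ℕ) = D.group F := by
    refine le_antisymm (hh.parabolic_le_group _) fun g hg => ?_
    obtain ⟨w, hw⟩ := hh.exists_bcell hg
    exact hh.mem_parabolic_of_bcell subset_rfl (bcell_mem_weyl hw) hw
  have h1 := hh.pCount_parabolic (F := F) p top htop _ subset_rfl
  rw [pCount_congr (MulEquiv.subgroupCongr hP), hh.card_posUnipotent] at h1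
  have hN : (invs (top (Finset.range D.rank))).card = D.nroots / 2 := by
    have hs : ∀ r : Fin D.nroots, Supp D C (Finset.range D.rank) r.val := fun r l hl hlJ =>
      absurd (Finset.mem_range.2 hl) hlJ
    have he : invs (top (Finset.range D.rank)) =
        Finset.univ.filter (fun r : Fin D.nroots => D.nroots / 2 ≤ r.val) := by
      ext r
      simp only [h.mem_invs, Finset.mem_filter, Finset.mem_univ, true_and]
      exact ⟨fun a => a.1, fun a => ⟨a, fun b => (hh.top_apply subset_rfl (htop _ subset_rfl) (hs r)).1 b a⟩⟩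
    rw [he, Finset.card_filter, ← h.posRoots_length]
    rw [h.posRoots_length, Fin.sum_univ_eq_sum_range (fun i => if D.nroots / 2 ≤ i then 1 else 0) D.nroots,
      ← Finset.card_filter]
    have hr : (Finset.range D.nroots).filter (fun i => D.nroots / 2 ≤ i) = Finset.Ico (D.nroots / 2) D.nroots := by
      ext i; simp only [Finset.mem_filter, Finset.mem_range, Finset.mem_Ico]; tauto
    rw [hr, Nat.card_Ico]
    have := h.two_mul_half
    omega
  rw [hN, ← pow_add, ← two_mul] at h1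
  exact h1

end Rooted

end Cfsg.Agent.Lib.Chev
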