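import Cfsg.Agent.Lib.Chev.WeakClosure

/-!
The hypotheses of the weak-closure theorem for the seven data over fields of the stated sizes.
-/

set_option autoImplicit false

namespace Cfsg.Agent.Lib.Chev

open Cfsg.Lie

variable {D : ChevalleyDatum} {C : Cert} {F : Type*} [Field F]

theorem exists_two_elements (h : 4 ≤ Nat.card F) : ∃ t t' : F, t ≠ 0 ∧ t ≠ 1 ∧ t' ≠ 0 ∧ t' ≠ 1 ∧ t ≠ t' := by
  classical
  haveI := Nat.finite_of_card_ne_zero (show Nat.card F ≠ 0 by omega)
  haveI := Fintype.ofFinite F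
  have hcard : 2 ≤ (Finset.univ \ ({0, 1} : Finset F)).card := by
    rw [Finset.card_univ_sdiff, ← Nat.card_eq_fintype_card]
    have : ({0, 1} : Finset F).card ≤ 2 := Finset.card_le_two
    omega
  obtain ⟨t, ht, t', ht', hne⟩ := Finset.one_lt_card.1 (show 1 < _ from hcard)
  simp only [Finset.mem_sdiff, Finset.mem_univ, Finset.mem_insert, Finset.mem_singleton, true_and, not_or] at ht ht'
  exact ⟨t, t', ht.1, ht.2, ht'.1, ht'.2, hne⟩

/-- Separation from the exponents. -/
theorem sep_of_chk [Finite F] (h : Checked D C) {ds : List ℤ} (hs : chkSep D C ds = true)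
    (hds : ∀ d ∈ ds, ¬ (((Nat.card F - 1 : ℕ) : ℤ) ∣ d)) :
    ∀ i < D.rank, ∀ l < D.rank, i ≠ l →
      ∃ c : ℕ → Fˣ, torusFun D c (D.simple l) = 1 ∧ torusFun D c (D.simple i) ≠ 1 := by
  classical
  intro i hi l hl hne
  haveI := Fintype.ofFinite F
  simp only [chkSep, allN_iff, Bool.or_eq_true, natBeq_iff, List.any_eq_true, List.mem_range,
    Bool.and_eq_true, decide_eq_true_eq] at hs
  rcases hs i hi l hl with e | ⟨k, hk, m, hm, a, -, b, -, hl0, d, hd, hid⟩
  · exact absurd e hne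
  obtain ⟨g, hg⟩ := IsCyclic.exists_ofOrder_eq_natCard (α := Fˣ)
  refine ⟨Pi.mulSingle k (g ^ a) * Pi.mulSingle m (g ^ b), ?_, ?_⟩ <;>
  · rw [torusFun]
    simp only [Pi.mul_apply, mul_zpow, Finset.prod_mul_distrib]
    rw [Finset.prod_eq_single k (fun j _ hj => by simp [hj]) (fun hn => absurd (Finset.mem_range.2 hk) hn),
      Finset.prod_eq_single m (fun j _ hj => by simp [hj]) (fun hn => absurd (Finset.mem_range.2 hm) hn),
      Pi.mulSingle_eq_same, Pi.mulSingle_eq_same, ← zpow_mul, ← zpow_mul, ← zpow_add, ← h.cm_eq ‹_› hk,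
      ← h.cm_eq ‹_› hm]
    first
      | (show g ^ sepVal C k m a b l = 1
         rw [hl0, zpow_zero])
      | (show g ^ sepVal C k m a b i ≠ 1
         rw [hid]
         intro e
         have h1 := orderOf_dvd_iff_zpow_eq_one.2 e
         rw [hg, Nat.card_units] at h1
         exact hds d hd h1)

theorem exists_sepData [Fintype F]
    (hD : D ∈ [chevG2, chevB2, chevD4, chevF4, chevE6, chevE7, chevE8]) (h2 : Fintype.card F ≠ 2)
    (h3 : D ∈ [chevG2, chevB2, chevD4, chevF4] → Fintype.card F ≠ 3) :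
    ∃ C : Cert, Rooted D C ∧ Nonempty (SepData D C F) := by
  have hq : 3 ≤ Nat.card F := by
    rw [Nat.card_eq_fintype_card]
    have := Fintype.one_lt_card (α := F)
    omega
  have small : ∀ {C : Cert} (nmax : ℕ), Rooted D C → nmax ≤ 3 → chkGen D C nmax = true →
      chkSep D C [1, -1, 2, -2] = true → 4 ≤ Nat.card F → Nonempty (SepData D C F) := by
    intro C nmax hh hn hg hs h4
    refine ⟨⟨nmax, hn, hg, sep_of_chk hh.toChecked hs fun d hd hdvd => ?_, fun _ => ?_, fun _ => ?_⟩⟩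
    · have h0 : d.natAbs ≠ 0 ∧ d.natAbs ≤ 2 := by
        simp only [List.mem_cons, List.not_mem_nil, or_false] at hd
        omega
      have := Nat.le_of_dvd (Nat.pos_of_ne_zero h0.1) (Int.natCast_dvd.1 hdvd)
      omega
    · obtain ⟨t, -, a, b, -⟩ := exists_two_elements h4
      exact ⟨t, a, b⟩
    · exact exists_two_elements h4
  have large : ∀ {C : Cert}, Rooted D C → chkGen D C 1 = true → chkSep D C [1, -1] = true →
      Nonempty (SepData D C F) := by
    intro C hh hg hs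
    refine ⟨⟨1, by omega, hg, sep_of_chk hh.toChecked hs fun d hd hdvd => ?_, fun h => by omega, fun h => by omega⟩⟩
    have h0 : d.natAbs = 1 := by
      simp only [List.mem_cons, List.not_mem_nil, or_false] at hd
      omega
    have := Nat.le_of_dvd (by omega) (Int.natCast_dvd.1 hdvd)
    omega
  have h4 : D ∈ [chevG2, chevB2, chevD4, chevF4] → 4 ≤ Nat.card F := fun hm => by
    have := h3 hm
    rw [Nat.card_eq_fintype_card] at hq ⊢
    omega
  simp only [List.mem_cons, List.not_mem_nil, or_false] at hD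
  rcases hD with rfl | rfl | rfl | rfl | rfl | rfl | rfl
  · exact ⟨_, ⟨checked_G2, descent_G2⟩, small 3 ⟨checked_G2, descent_G2⟩ le_rfl gen_G2 sep_G2 (h4 (by simp))⟩
  · exact ⟨_, ⟨checked_B2, descent_B2⟩, small 2 ⟨checked_B2, descent_B2⟩ (by omega) gen_B2 sep_B2 (h4 (by simp))⟩
  · exact ⟨_, ⟨checked_D4, descent_D4⟩, small 1 ⟨checked_D4, descent_D4⟩ (by omega) gen_D4 sep_D4 (h4 (by simp))⟩
  · exact ⟨_, ⟨checked_F4, descent_F4⟩, small 2 ⟨checked_F4, descent_F4⟩ (by omega) gen_F4 sep_F4 (h4 (by simp))⟩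
  · exact ⟨_, ⟨checked_E6, descent_E6⟩, large ⟨checked_E6, descent_E6⟩ gen_E6 sep_E6⟩
  · exact ⟨_, ⟨checked_E7, descent_E7⟩, large ⟨checked_E7, descent_E7⟩ gen_E7 sep_E7⟩
  · exact ⟨_, ⟨checked_E8, descent_E8⟩, large ⟨checked_E8, descent_E8⟩ gen_E8 sep_E8⟩

end Cfsg.Agent.Lib.Chev
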