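import Cfsg.Agent.Lib.Chev.Poincare
import Cfsg.Prelude.Def_ChevStructure

/-!
`N/H` as the group of permutations of the roots, and its identification with the Coxeter group.
-/

set_option autoImplicit false

namespace Cfsg.Agent.Lib.Chev

open Cfsg.Lie

variable {D : ChevalleyDatum} {C : Cert} {F : Type*} [Field F]

/-- The braid relations on the roots. -/
def chkBraid (D : ChevalleyDatum) (C : Cert) {n : ℕ} (M : CoxeterMatrix (Fin n)) : Bool :=
  allN n fun i => allN n fun j => allN D.nroots fun r =>
    if h : i < n ∧ j < n then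
      Nat.beq ((fun s => refl C i (refl C j s))^[M ⟨i, h.1⟩ ⟨j, h.2⟩] r) r
    else true

namespace Rooted

variable (hh : Rooted D C)
include hh

/-- The permutation of the roots induced by an element of `N`. -/
noncomputable def nPerm (F : Type*) [Field F] (g : ↥(D.monomialSubgroup F)) : Equiv.Perm (Fin D.nroots) :=
  wperm hh.toChecked (hh.exists_word (F := F) g.2).choose

theorem nPerm_eq {g : ↥(D.monomialSubgroup F)} {L : List ℕ} (hL : IsWord D L) {t : GL D.Idx F}
    (ht : t ∈ D.diagonalSubgroup F) (e : (g : GL D.Idx F) = nProd hh.toChecked F L * t) :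
    hh.nPerm F g = wperm hh.toChecked L := by
  obtain ⟨hL', t', ht', e'⟩ := (hh.exists_word g.2).choose_spec
  unfold nPerm
  generalize (hh.exists_word g.2).choose = L' at hL' e'
  refine (hh.wperm_eq_of_diag (F := F) hL hL' ?_)
  have e1 : (nProd hh.toChecked F L)⁻¹ * nProd hh.toChecked F L' = t * t'⁻¹ := by
    rw [inv_mul_eq_iff_eq_mul, ← mul_assoc, ← e, e', mul_inv_cancel_right]
  rw [e1]
  exact mul_mem ht (inv_mem ht')

theorem nPerm_mul (a b : ↥(D.monomialSubgroup F)) : hh.nPerm F (a * b) = hh.nPerm F a * hh.nPerm F b := by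
  obtain ⟨L, hL, t, ht, e⟩ := hh.exists_word a.2
  obtain ⟨L', hL', t', ht', e'⟩ := hh.exists_word b.2
  obtain ⟨t₁, ht₁, et⟩ := hh.diag_mul_nProd hL' ht
  rw [hh.nPerm_eq hL ht e, hh.nPerm_eq hL' ht' e',
    hh.nPerm_eq (hL.append hL') (mul_mem ht₁ ht') (by
      rw [Subgroup.coe_mul, e, e', nProd_append, mul_assoc, ← mul_assoc t, et]; simp only [mul_assoc]),
    wperm_append]

/-- The homomorphism from `N` onto the Weyl group of root permutations. -/
noncomputable def nHom (F : Type*) [Field F] :
    ↥(D.monomialSubgroup F) →* ↥(weyl hh.toChecked (Finset.range D.rank)) :=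
  MonoidHom.mk' (fun g => ⟨hh.nPerm F g, hh.toChecked.mem_weyl_of_word (hh.exists_word g.2).choose_spec.1⟩)
    fun a b => Subtype.ext (hh.nPerm_mul a b)

theorem nHom_surjective : Function.Surjective (hh.nHom F) := by
  intro w
  obtain ⟨L, hL, e⟩ := hh.toChecked.exists_word_of_weyl w.2
  refine ⟨⟨nProd hh.toChecked F L, hh.nProd_mem_monomial hL⟩, Subtype.ext ?_⟩
  show hh.nPerm F _ = _
  rw [hh.nPerm_eq hL (one_mem _) (mul_one _).symm, e]

theorem nHom_ker : (hh.nHom F).ker = (D.diagonalSubgroup F).subgroupOf (D.monomialSubgroup F) := by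
  ext g
  obtain ⟨L, hL, t, ht, e⟩ := hh.exists_word g.2
  rw [MonoidHom.mem_ker, Subgroup.mem_subgroupOf, Subtype.ext_iff]
  show hh.nPerm F g = 1 ↔ _
  rw [hh.nPerm_eq hL ht e, ← wperm_nil hh.toChecked]
  constructor
  · intro e1
    have := hh.diag_of_wperm_eq (F := F) (List.forall_mem_nil _) hL e1.symm
    rw [e]
    exact mul_mem (by simpa [nProd] using this) ht
  · intro hg
    refine hh.wperm_eq_of_diag (F := F) (List.forall_mem_nil _) hL ?_
    have : nProd hh.toChecked F L = (g : GL D.Idx F) * t⁻¹ := by rw [e, mul_inv_cancel_right]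
    have e0 : nProd hh.toChecked F [] = 1 := by simp [nProd]
    rw [e0, inv_one, one_mul, this]
    exact mul_mem hg (inv_mem ht)

theorem card_weyl {os : List OrbitCert} (hc : chkChain D C (List.range D.rank) os = true) :
    Nat.card ↥(weyl hh.toChecked (Finset.range D.rank)) = (os.map fun o => o.orbit.length).prod := by
  classical
  have h1 := hh.poinc_chain (1 : ℕ) os _ hc
  rw [List.toFinset_range] at h1
  simp only [poinc, one_pow, Finset.sum_const, smul_eq_mul, mul_one, orbitSum, List.map_const', List.sum_replicate] at h1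
  rw [← h1, Nat.card_eq_fintype_card, Fintype.card_subtype]

/-- The Coxeter group maps isomorphically onto the Weyl group. -/
theorem exists_coxeterHom {n : ℕ} (M : CoxeterMatrix (Fin n)) (hn : n = D.rank) (hb : chkBraid D C M = true)
    {os : List OrbitCert} (hc : chkChain D C (List.range D.rank) os = true)
    (hcard : Nat.card M.Group = (os.map fun o => o.orbit.length).prod) :
    ∃ φ : ↥(D.monomialSubgroup F) →* M.Group, Function.Surjective φ ∧
      φ.ker = (D.diagonalSubgroup F).subgroupOf (D.monomialSubgroup F) ∧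
      ∀ (i : Fin n) (g : ↥(D.monomialSubgroup F)),
        ((g : GL D.Idx F) : Matrix D.Idx D.Idx F) = D.nMat F (D.simple i) 1 → φ g = M.simple i := by
  have h := hh.toChecked
  subst hn
  let s : Fin D.rank → ↥(weyl h (Finset.range D.rank)) :=
    fun i => ⟨sigma h i.val, h.sigma_mem_weyl (Finset.mem_range.2 i.2)⟩
  have hs : M.IsLiftable s := by
    intro i j
    refine Subtype.ext (Equiv.ext fun r => Fin.ext ?_)
    simp only [chkBraid, allN_iff] at hb
    have hr := hb i.val i.2 j.val j.2 r.val r.2
    rw [dif_pos ⟨i.2, j.2⟩, natBeq_iff] at hr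
    simp only [Fin.eta] at hr
    rw [SubmonoidClass.coe_pow, OneMemClass.coe_one, Equiv.Perm.one_apply]
    refine Eq.trans ?_ hr
    simp only [s, Subgroup.coe_mul]
    generalize M i j = k
    clear hr
    induction k generalizing r with
    | zero => rfl
    | succ k ih =>
      rw [pow_succ, Equiv.Perm.mul_apply, ih, Function.iterate_succ_apply, Equiv.Perm.mul_apply, h.sigma_val i.2,
        h.sigma_val j.2]
  let θ : M.Group →* ↥(weyl h (Finset.range D.rank)) := M.toCoxeterSystem.lift ⟨s, hs⟩
  have hθ : ∀ i, θ (M.simple i) = s i := fun i => M.toCoxeterSystem.lift_apply_simple hs i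
  have hsur : Function.Surjective θ := by
    intro w
    obtain ⟨L, hL, e⟩ := h.exists_word_of_weyl w.2
    have : ∀ L : List ℕ, IsWord D L → ∃ x, (θ x : Equiv.Perm (Fin D.nroots)) = wperm h L := by
      intro L
      induction L with
      | nil => intro _; exact ⟨1, by rw [map_one, wperm_nil]; rfl⟩
      | cons i L ih =>
        intro hL
        obtain ⟨x, hx⟩ := ih hL.cons.2
        exact ⟨M.simple ⟨i, hL.cons.1⟩ * x, by rw [map_mul, hθ, Subgroup.coe_mul, hx, wperm_cons]⟩
    obtain ⟨x, hx⟩ := this L hL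
    exact ⟨x, Subtype.ext (hx.trans e)⟩
  have hfin : Finite M.Group := Nat.finite_of_card_ne_zero (by
    rw [hcard, ← hh.card_weyl hc]; exact Nat.card_ne_zero.2 ⟨⟨1⟩, inferInstance⟩)
  have hbij : Function.Bijective θ := hsur.bijective_of_nat_card_le (by rw [hcard, hh.card_weyl hc])
  let e := MulEquiv.ofBijective θ hbij
  refine ⟨e.symm.toMonoidHom.comp (hh.nHom F), e.symm.surjective.comp hh.nHom_surjective, ?_, ?_⟩
  · rw [← hh.nHom_ker (F := F)]
    ext g
    simp [MonoidHom.mem_ker]
  · intro i g hg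
    show e.symm (hh.nHom F g) = _
    rw [MulEquiv.symm_apply_eq]
    refine Subtype.ext ?_
    show hh.nPerm F g = ((θ (M.simple i)) : Equiv.Perm (Fin D.nroots))
    rw [hθ, hh.nPerm_eq (L := [i.val]) (by simp [IsWord, i.2]) (one_mem _) (Units.ext (by
      rw [hg, mul_one, nProd_singleton, coe_nS _ i.2]))]
    simp [wperm, s]

end Rooted

end Cfsg.Agent.Lib.Chev
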